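import Mathlib
import Cfsg.Agent.PermutationGroups.PSBochert

/-!
# 2-transitive groups with alternating socle, part A: the partition lemma, 3-cycles, Bochert's bound, counting

Helper file for HUB H1, part P10 (helper503).
-/

set_option autoImplicit false

namespace Cfsg.Agent.H503.TwoAlt

open MulAction
open scoped Pointwise

section Partition

variable {ι : Type*} [DecidableEq ι] {G : Type*} [Group G] {Ω : Type*} [MulAction G Ω]

/-- If a 2-transitive group `G` also acts on `ι` and `x₀` changes the equivalence relation `R α` by a transposition of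
two inequivalent points, then every element of `G` maps each class of `R α`, up to one point, into a class. -/
theorem class_almost (ρ : G →* Equiv.Perm ι)
    (h2 : ∀ a b c d : Ω, a ≠ b → c ≠ d → ∃ g : G, g • a = c ∧ g • b = d)
    (R : Ω → ι → ι → Prop) (hR : ∀ α, Equivalence (R α))
    (hRg : ∀ (g : G) α i j, R (g • α) (ρ g i) (ρ g j) ↔ R α i j) (α : Ω) (x₀ : G) (hx₀ : x₀ • α ≠ α)
    (a b : ι) (hab : ¬ R α a b)
    (hx : ∀ i j, R (x₀ • α) i j ↔ R α (Equiv.swap a b i) (Equiv.swap a b j))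
    (g : G) (c : ι) : ∃ d p, ∀ k, R α c k → ρ g k ≠ p → R α d (ρ g k) := by
  by_cases hg : g • α = α
  · refine ⟨ρ g c, c, fun k hk _ => ?_⟩
    have := (hRg g α c k).2 hk
    rwa [hg] at this
  · obtain ⟨z, hz1, hz2⟩ := h2 α (x₀ • α) α (g • α) (Ne.symm hx₀) (Ne.symm hg)
    -- `z` fixes `α` and maps `x₀ • α` to `g • α`
    have hzR : ∀ i j, R α (ρ z i) (ρ z j) ↔ R α i j := fun i j => by
      have := hRg z α i j
      rwa [hz1] at this
    set u : ι := (ρ z)⁻¹ (ρ g c) with hu
    have hzu : ρ z u = ρ g c := by rw [hu]; exact (ρ z).apply_symm_apply _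
    -- the class in terms of `v = z⁻¹ (g k)`
    have key : ∀ v, R (g • α) (ρ g c) (ρ z v) → R α (Equiv.swap a b u) (Equiv.swap a b v) := by
      intro v hv
      rw [← hx]
      rw [← hz2, ← hzu] at hv
      exact (hRg z (x₀ • α) u v).1 hv
    by_cases hua : R α (Equiv.swap a b u) a
    · refine ⟨ρ z (Equiv.swap a b u), ρ z b, fun k hk hp => ?_⟩
      obtain ⟨v, hv⟩ : ∃ v, ρ z v = ρ g k := ⟨(ρ z).symm (ρ g k), (ρ z).apply_symm_apply _⟩
      rw [← hv] at hp ⊢
      rw [hzR]
      have hvb : v ≠ b := fun h => hp (by rw [h])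
      have h1 := key v (by rw [hv]; exact (hRg g α c k).2 hk)
      by_cases hva : v = a
      · rw [hva, Equiv.swap_apply_left] at h1
        exact absurd ((hR α).trans ((hR α).symm hua) h1) hab
      · rwa [Equiv.swap_apply_of_ne_of_ne hva hvb] at h1
    · refine ⟨ρ z (Equiv.swap a b u), ρ z a, fun k hk hp => ?_⟩
      obtain ⟨v, hv⟩ : ∃ v, ρ z v = ρ g k := ⟨(ρ z).symm (ρ g k), (ρ z).apply_symm_apply _⟩
      rw [← hv] at hp ⊢
      rw [hzR]
      have hva : v ≠ a := fun h => hp (by rw [h])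
      have h1 := key v (by rw [hv]; exact (hRg g α c k).2 hk)
      by_cases hvb : v = b
      · rw [hvb, Equiv.swap_apply_right] at h1
        exact absurd h1 hua
      · rwa [Equiv.swap_apply_of_ne_of_ne hva hvb] at h1

variable [Fintype ι]

/-- The product of two transpositions is even. -/
theorem swap_mul_swap_mem (a b c d : ι) (hab : a ≠ b) (hcd : c ≠ d) :
    Equiv.swap a b * Equiv.swap c d ∈ alternatingGroup ι := by
  rw [Equiv.Perm.mem_alternatingGroup, map_mul, Equiv.Perm.sign_swap hab, Equiv.Perm.sign_swap hcd]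
  norm_num

/-- **Partition lemma**. -/
theorem partition (ρ : G →* Equiv.Perm ι) (hA : alternatingGroup ι ≤ ρ.range)
    (h2 : ∀ a b c d : Ω, a ≠ b → c ≠ d → ∃ g : G, g • a = c ∧ g • b = d)
    (R : Ω → ι → ι → Prop) (hR : ∀ α, Equivalence (R α))
    (hRg : ∀ (g : G) α i j, R (g • α) (ρ g i) (ρ g j) ↔ R α i j)
    (hsize : ∀ α i j, i ≠ j → R α i j → ∃ k, k ≠ i ∧ k ≠ j ∧ R α i k)
    (α : Ω) (hbot : ∃ i j, i ≠ j ∧ R α i j) (htop : ∃ i j, ¬ R α i j) :
    Fintype.card ι = 6 ∨ ∃ b, ∀ g : G, g • α = α ↔ ρ g b = b := by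
  obtain ⟨a, a', haa', hRaa'⟩ := hbot
  obtain ⟨a'', h1, h2', hRaa''⟩ := hsize α a a' haa' hRaa'
  have hsymm : ∀ i j, R α i j → R α j i := fun i j h => (hR α).symm h
  have htrans : ∀ i j k, R α i j → R α j k → R α i k := fun i j k h h' => (hR α).trans h h'
  -- a point outside the class
  obtain ⟨b, hb⟩ : ∃ b, ¬ R α a b := by
    by_contra hcon
    push Not at hcon
    obtain ⟨i, j, hij⟩ := htop
    exact hij (htrans _ _ _ (hsymm _ _ (hcon i)) (hcon j))
  have hab : a ≠ b := fun h => hb (h ▸ (hR α).refl a)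
  have ha'b : a' ≠ b := fun h => hb (h ▸ hRaa')
  have ha''b : a'' ≠ b := fun h => hb (h ▸ hRaa'')
  obtain ⟨x₀, hx₀⟩ := hA (swap_mul_swap_mem a b a' a'' hab (Ne.symm h2'))
  have hx₀' : ∀ i, ρ x₀ i = Equiv.swap a b (Equiv.swap a' a'' i) := fun i => by rw [hx₀]; rfl
  have hsw : ∀ i, R α i (Equiv.swap a' a'' i) := by
    intro i
    by_cases hi1 : i = a'
    · rw [hi1, Equiv.swap_apply_left]
      exact htrans _ _ _ (hsymm _ _ hRaa') hRaa''
    · by_cases hi2 : i = a''
      · rw [hi2, Equiv.swap_apply_right]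
        exact htrans _ _ _ (hsymm _ _ hRaa'') hRaa'
      · rw [Equiv.swap_apply_of_ne_of_ne hi1 hi2]
        exact (hR α).refl i
  have hx₀α : x₀ • α ≠ α := by
    intro h
    have h3 := hRg x₀ α a' a
    rw [h, hx₀', hx₀', Equiv.swap_apply_left, Equiv.swap_apply_of_ne_of_ne haa' (Ne.symm h1),
      Equiv.swap_apply_left, Equiv.swap_apply_of_ne_of_ne h1 ha''b] at h3
    exact hb (htrans _ _ _ hRaa'' (h3.2 (hsymm _ _ hRaa')))
  have hxR : ∀ i j, R (x₀ • α) i j ↔ R α (Equiv.swap a b i) (Equiv.swap a b j) := by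
    intro i j
    have h3 := hRg x₀ α (Equiv.swap a' a'' (Equiv.swap a b i)) (Equiv.swap a' a'' (Equiv.swap a b j))
    rw [hx₀', hx₀', Equiv.swap_apply_self, Equiv.swap_apply_self, Equiv.swap_apply_self,
      Equiv.swap_apply_self] at h3
    rw [h3]
    constructor
    · intro h
      exact htrans _ _ _ (hsw _) (htrans _ _ _ h (hsymm _ _ (hsw _)))
    · intro h
      exact htrans _ _ _ (hsymm _ _ (hsw _)) (htrans _ _ _ h (hsw _))
  have star := class_almost ρ h2 R hR hRg α x₀ hx₀α a b hb hxR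
  -- the end game
  have game : ∀ a a' a'' b b' : ι, a ≠ a' → a'' ≠ a → a'' ≠ a' → R α a a' → R α a a'' → ¬ R α a b →
      ¬ R α a b' → b ≠ b' → R α b b' ∧ ∀ k, R α a k → k = a ∨ k = a' ∨ k = a'' := by
    intro a a' a'' b b' haa' h1 h2' hRaa' hRaa'' hb hb' hbb'
    have hab : a ≠ b := fun h => hb (h ▸ (hR α).refl a)
    have ha'b : a' ≠ b := fun h => hb (h ▸ hRaa')
    have ha''b : a'' ≠ b := fun h => hb (h ▸ hRaa'')
    have hab' : a ≠ b' := fun h => hb' (h ▸ (hR α).refl a)
    have ha'b' : a' ≠ b' := fun h => hb' (h ▸ hRaa')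
    have ha''b' : a'' ≠ b' := fun h => hb' (h ▸ hRaa'')
    obtain ⟨y, hy⟩ := hA (swap_mul_swap_mem a b a' b' hab ha'b')
    have hy' : ∀ i, ρ y i = Equiv.swap a b (Equiv.swap a' b' i) := fun i => by rw [hy]; rfl
    have ya : ρ y a = b := by
      rw [hy', Equiv.swap_apply_of_ne_of_ne haa' hab', Equiv.swap_apply_left]
    have ya' : ρ y a' = b' := by
      rw [hy', Equiv.swap_apply_left, Equiv.swap_apply_of_ne_of_ne (Ne.symm hab') (Ne.symm hbb')]
    have yk : ∀ k, R α a k → k ≠ a → k ≠ a' → ρ y k = k := by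
      intro k hk hka hka'
      have hkb : k ≠ b := fun h => hb (h ▸ hk)
      have hkb' : k ≠ b' := fun h => hb' (h ▸ hk)
      rw [hy', Equiv.swap_apply_of_ne_of_ne hka' hkb', Equiv.swap_apply_of_ne_of_ne hka hkb]
    obtain ⟨d, p, hdp⟩ := star y a
    have hda : b ≠ p → R α d b := fun h => by
      have := hdp a ((hR α).refl a) (by rwa [ya])
      rwa [ya] at this
    have hda' : b' ≠ p → R α d b' := fun h => by
      have := hdp a' hRaa' (by rwa [ya'])
      rwa [ya'] at this
    have hdk : ∀ k, R α a k → k ≠ a → k ≠ a' → k ≠ p → R α d k := by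
      intro k hk hka hka' hkp
      have := hdp k hk (by rwa [yk k hk hka hka'])
      rwa [yk k hk hka hka'] at this
    -- every such `k` equals `p`
    have hkp : ∀ k, R α a k → k ≠ a → k ≠ a' → k = p := by
      intro k hk hka hka'
      by_contra hkp
      have h3 := hdk k hk hka hka' hkp
      by_cases hbp : b = p
      · have h4 := hda' (fun h => hbb' (hbp.trans h.symm))
        exact hb' (htrans _ _ _ hk (htrans _ _ _ (hsymm _ _ h3) h4))
      · have h4 := hda hbp
        exact hb (htrans _ _ _ hk (htrans _ _ _ (hsymm _ _ h3) h4))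
    have hp : a'' = p := hkp a'' hRaa'' h1 h2'
    refine ⟨?_, ?_⟩
    · exact htrans _ _ _ (hsymm _ _ (hda (fun h => ha''b (hp.trans h.symm))))
        (hda' (fun h => ha''b' (hp.trans h.symm)))
    · intro k hk
      by_contra hcon
      push Not at hcon
      exact hcon.2.2 ((hkp k hk hcon.1 hcon.2.1).trans hp.symm)
  by_cases hcase : ∃ b', b' ≠ b ∧ ¬ R α a b'
  · left
    obtain ⟨b', hb'b, hb'⟩ := hcase
    have g1 := game a a' a'' b b' haa' h1 h2' hRaa' hRaa'' hb hb' (Ne.symm hb'b)
    obtain ⟨b'', h3, h4, h5⟩ := hsize α b b' (Ne.symm hb'b) g1.1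
    have hba : ¬ R α b a := fun h => hb (hsymm _ _ h)
    have hba' : ¬ R α b a' := fun h => hb (htrans _ _ _ hRaa' (hsymm _ _ h))
    have g2 := game b b' b'' a a' (Ne.symm hb'b) h3 h4 g1.1 h5 hba hba' haa'
    have hb'' : ¬ R α a b'' := fun h => hb (htrans _ _ _ h (hsymm _ _ h5))
    have hne : ∀ i j, R α a i → ¬ R α a j → i ≠ j := fun i j hi hj h => hj (h ▸ hi)
    have huniv : (Finset.univ : Finset ι) = {a, a', a'', b, b', b''} := by
      symm
      rw [Finset.eq_univ_iff_forall]
      intro k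
      simp only [Finset.mem_insert, Finset.mem_singleton]
      by_cases hk : R α a k
      · rcases g1.2 k hk with h | h | h <;> simp [h]
      · by_cases hkb : k = b
        · simp [hkb]
        · have h6 : R α b k := (game a a' a'' b k haa' h1 h2' hRaa' hRaa'' hb hk (Ne.symm hkb)).1
          rcases g2.2 k h6 with h | h | h <;> simp [h]
    rw [← Finset.card_univ, huniv]
    rw [Finset.card_insert_of_notMem, Finset.card_insert_of_notMem, Finset.card_insert_of_notMem,
      Finset.card_insert_of_notMem, Finset.card_insert_of_notMem, Finset.card_singleton]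
    · rw [Finset.mem_singleton]; exact Ne.symm h4
    · simp only [Finset.mem_insert, Finset.mem_singleton, not_or]
      exact ⟨Ne.symm hb'b, Ne.symm h3⟩
    · simp only [Finset.mem_insert, Finset.mem_singleton, not_or]
      exact ⟨hne _ _ hRaa'' hb, hne _ _ hRaa'' hb', hne _ _ hRaa'' hb''⟩
    · simp only [Finset.mem_insert, Finset.mem_singleton, not_or]
      exact ⟨Ne.symm h2', hne _ _ hRaa' hb, hne _ _ hRaa' hb', hne _ _ hRaa' hb''⟩
    · simp only [Finset.mem_insert, Finset.mem_singleton, not_or]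
      exact ⟨haa', Ne.symm h1, hne _ _ ((hR α).refl a) hb, hne _ _ ((hR α).refl a) hb',
        hne _ _ ((hR α).refl a) hb''⟩
  · right
    push Not at hcase
    refine ⟨b, fun g => ⟨fun hg => ?_, fun hg => ?_⟩⟩
    · -- `g` preserves `R α`
      have hgR : ∀ i j, R α (ρ g i) (ρ g j) ↔ R α i j := fun i j => by
        have := hRg g α i j
        rwa [hg] at this
      by_contra hne
      -- all points other than `b` are equivalent to `a`
      have hb1 : ∀ k, k ≠ b → ¬ R α b k := fun k hk h => hb (htrans _ _ _ (hcase k hk) (hsymm _ _ h))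
      -- choose `c' ≠ g b, b`
      obtain ⟨c, hc1, hc2⟩ : ∃ c, c ≠ ρ g b ∧ R α (ρ g b) c := by
        by_cases h3 : a = ρ g b
        · exact ⟨a', by rw [← h3]; exact Ne.symm haa', by rw [← h3]; exact hRaa'⟩
        · exact ⟨a, h3, hsymm _ _ (hcase _ hne)⟩
      obtain ⟨e, he⟩ : ∃ e, ρ g e = c := ⟨(ρ g).symm c, (ρ g).apply_symm_apply _⟩
      rw [← he, hgR] at hc2
      exact hb1 e (fun h => hc1 (by rw [← he, h])) hc2
    · -- `g` preserves `R α` hence fixes `α`
      have hgR : ∀ i j, R α (ρ g i) (ρ g j) ↔ R α i j := by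
        have hgb : ∀ i, ρ g i = b ↔ i = b := fun i => by
          constructor
          · intro h; exact (ρ g).injective (h.trans hg.symm)
          · rintro rfl; exact hg
        have hall : ∀ i j, R α i j ↔ (i = b ↔ j = b) := by
          intro i j
          by_cases hi : i = b
          · by_cases hj : j = b
            · simp only [hi, hj, iff_true]; exact (hR α).refl b
            · simp only [hi, hj, iff_false, not_true_eq_false, iff_false]
              intro h
              exact hb (htrans _ _ _ (hcase j hj) (hsymm _ _ h))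
          · by_cases hj : j = b
            · simp only [hi, hj, iff_true, iff_false]
              intro h
              exact hb (htrans _ _ _ (hcase i hi) h)
            · simp only [hi, hj, iff_true]
              exact htrans _ _ _ (hsymm _ _ (hcase i hi)) (hcase j hj)
        intro i j
        rw [hall, hall, hgb, hgb]
      by_contra hne
      obtain ⟨z, hz1, hz2⟩ := h2 α (g • α) α (x₀ • α) (Ne.symm hne) (Ne.symm hx₀α)
      have h3 : ∀ i j, R (x₀ • α) (ρ z (ρ g i)) (ρ z (ρ g j)) ↔ R α i j := by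
        intro i j
        rw [← hz2, hRg, hRg]
      have h4 : ∀ i j, R α (ρ z (ρ g i)) (ρ z (ρ g j)) ↔ R α i j := by
        intro i j
        have := hRg z α (ρ g i) (ρ g j)
        rw [hz1] at this
        rw [this, hgR]
      have h5 : ∀ i j, R (x₀ • α) i j ↔ R α i j := by
        intro i j
        obtain ⟨i', hi'⟩ : ∃ i', ρ z (ρ g i') = i := ⟨(ρ g).symm ((ρ z).symm i), by simp⟩
        obtain ⟨j', hj'⟩ : ∃ j', ρ z (ρ g j') = j := ⟨(ρ g).symm ((ρ z).symm j), by simp⟩
        rw [← hi', ← hj', h3, h4]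
      have h7 := h5 b a'
      rw [hxR, Equiv.swap_apply_right, Equiv.swap_apply_of_ne_of_ne (Ne.symm haa') ha'b] at h7
      exact hb (htrans _ _ _ hRaa' (hsymm _ _ (h7.1 hRaa')))

end Partition

section ThreeCycles

variable {ι : Type*} [DecidableEq ι] [Fintype ι]

/-- A 3-cycle moving `i` has the cycle `i, t i, t (t i)`. -/
theorem three_of_moved (t : Equiv.Perm ι) (ht : t.IsThreeCycle) (i j : ι) (hi : t i ≠ i) (hj : t j ≠ j) :
    j = i ∨ j = t i ∨ j = t (t i) := by
  obtain ⟨n, hn⟩ := ht.isCycle.exists_pow_eq hi hj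
  have h3 : t ^ 3 = 1 := by rw [← ht.orderOf]; exact pow_orderOf_eq_one t
  have hn' : (t ^ (n % 3)) i = j := by
    rw [← hn]
    conv_rhs => rw [← Nat.mod_add_div n 3, pow_add, pow_mul, h3, one_pow, mul_one]
  have hlt : n % 3 < 3 := Nat.mod_lt _ (by norm_num)
  generalize n % 3 = k at hn' hlt
  interval_cases k
  · left; rw [← hn']; rfl
  · right; left; rw [← hn', pow_one]
  · right; right; rw [← hn', pow_two]; rfl

theorem three_cube (t : Equiv.Perm ι) (ht : t.IsThreeCycle) (i : ι) : t (t (t i)) = i := by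
  have h3 : t ^ 3 = 1 := by rw [← ht.orderOf]; exact pow_orderOf_eq_one t
  have := congrArg (fun f : Equiv.Perm ι => f i) h3
  simpa [pow_succ] using this

/-- The subgroup generated by the 3-cycles in `M`. -/
def threeClosure (M : Subgroup (Equiv.Perm ι)) : Subgroup (Equiv.Perm ι) :=
  Subgroup.closure {t | t.IsThreeCycle ∧ t ∈ M}

theorem threeClosure_le (M : Subgroup (Equiv.Perm ι)) : threeClosure M ≤ M :=
  (Subgroup.closure_le _).2 fun _ h => h.2

/-- If the 3-cycles of `M` generate a transitive group then `M` contains the alternating group. -/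
theorem alternating_le_of_transitive (M : Subgroup (Equiv.Perm ι)) (h3 : ∃ t ∈ M, t.IsThreeCycle)
    (htr : ∀ i j, ∃ x ∈ threeClosure M, x i = j) : alternatingGroup ι ≤ M := by
  obtain ⟨t₀, ht₀M, ht₀⟩ := h3
  refine le_trans ?_ (threeClosure_le M)
  have ht₀C : t₀ ∈ threeClosure M := Subgroup.subset_closure ⟨ht₀, ht₀M⟩
  refine Equiv.Perm.alternatingGroup_le_of_isPreprimitive_of_isThreeCycle_mem (G := threeClosure M) ?_ ht₀ ht₀C
  haveI : MulAction.IsPretransitive (threeClosure M) ι := ⟨fun i j => by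
    obtain ⟨x, hx, hxi⟩ := htr i j
    exact ⟨⟨x, hx⟩, hxi⟩⟩
  refine { isTrivialBlock_of_isBlock := ?_ }
  intro B hB
  by_contra hcon
  rw [MulAction.IsTrivialBlock, not_or] at hcon
  obtain ⟨hns, hnu⟩ := hcon
  rw [Set.not_subsingleton_iff] at hns
  -- a 3-cycle moving a point of `B` out of `B`
  obtain ⟨t, ht, htM, i, hiB, htiB⟩ : ∃ t : Equiv.Perm ι, t.IsThreeCycle ∧ t ∈ M ∧ ∃ i ∈ B, t i ∉ B := by
    by_contra hcon
    push Not at hcon
    apply hnu
    have hall : ∀ x ∈ threeClosure M, ∀ i ∈ B, x i ∈ B ∧ x⁻¹ i ∈ B := by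
      intro x hx
      induction hx using Subgroup.closure_induction with
      | mem t ht =>
        intro i hi
        refine ⟨hcon t ht.1 ht.2 i hi, ?_⟩
        exact hcon t⁻¹ ht.1.inv (M.inv_mem ht.2) i hi
      | one => intro i hi; exact ⟨hi, by simpa using hi⟩
      | mul x y _ _ hx hy =>
        intro i hi
        refine ⟨(hx _ (hy i hi).1).1, ?_⟩
        rw [mul_inv_rev]
        exact (hy _ (hx i hi).2).2
      | inv x _ hx =>
        intro i hi
        refine ⟨(hx i hi).2, ?_⟩
        rw [inv_inv]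
        exact (hx i hi).1
    obtain ⟨i₀, hi₀, -⟩ := hns
    rw [Set.eq_univ_iff_forall]
    intro j
    obtain ⟨x, hx, hxi⟩ := htr i₀ j
    rw [← hxi]
    exact (hall x hx i₀ hi₀).1
  have htC : t ∈ threeClosure M := Subgroup.subset_closure ⟨ht, htM⟩
  have hti : t i ≠ i := fun h => htiB (by rw [h]; exact hiB)
  -- `t B` is disjoint from `B`
  have hdisj : ∀ j ∈ B, t j ∉ B := by
    intro j hj htj
    have h1 := MulAction.isBlock_iff_smul_eq_or_disjoint.1 hB ⟨t, htC⟩
    rcases h1 with h1 | h1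
    · have : t i ∈ (⟨t, htC⟩ : threeClosure M) • B := ⟨i, hiB, rfl⟩
      rw [h1] at this
      exact htiB this
    · exact Set.disjoint_left.1 h1 ⟨j, hj, rfl⟩ htj
  obtain ⟨j, hjB, hji⟩ := hns.exists_ne i
  have htj : t j ≠ j := fun h => hdisj j hjB (by rw [h]; exact hjB)
  rcases three_of_moved t ht i j hti htj with h | h | h
  · exact hji h
  · exact htiB (by rw [← h]; exact hjB)
  · apply hdisj j hjB
    rw [h, three_cube t ht]
    exact hiB

variable {G : Type*} [Group G] {Ω : Type*} [MulAction G Ω]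

theorem mem_map_stab (ρ : G →* Equiv.Perm ι) (g : G) (α : Ω) (t : Equiv.Perm ι)
    (ht : t ∈ (stabilizer G α).map ρ) : ρ g * t * (ρ g)⁻¹ ∈ (stabilizer G (g • α)).map ρ := by
  obtain ⟨x, hx, rfl⟩ := ht
  refine ⟨g * x * g⁻¹, ?_, by simp⟩
  have hx' : x • α = α := hx
  show (g * x * g⁻¹) • (g • α) = g • α
  rw [mul_smul, mul_smul, inv_smul_smul, hx']

/-- **Case (a)**: the stabilizer contains a 3-cycle. -/
theorem case_three (ρ : G →* Equiv.Perm ι) (hA : alternatingGroup ι ≤ ρ.range)
    (h2 : ∀ a b c d : Ω, a ≠ b → c ≠ d → ∃ g : G, g • a = c ∧ g • b = d) (α : Ω)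
    (h3 : ∃ t ∈ (stabilizer G α).map ρ, t.IsThreeCycle)
    (hM : ¬ alternatingGroup ι ≤ (stabilizer G α).map ρ) :
    Fintype.card ι = 6 ∨ ∃ b, ∀ g : G, g • α = α ↔ ρ g b = b := by
  let C : Ω → Subgroup (Equiv.Perm ι) := fun α => threeClosure ((stabilizer G α).map ρ)
  have hC : ∀ (g : G) (α : Ω) (x : Equiv.Perm ι), x ∈ C α → ρ g * x * (ρ g)⁻¹ ∈ C (g • α) := by
    intro g α x hx
    induction hx using Subgroup.closure_induction with
    | mem t ht =>
      refine Subgroup.subset_closure ⟨?_, mem_map_stab ρ g α t ht.2⟩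
      rw [Equiv.Perm.IsThreeCycle, Equiv.Perm.cycleType_conj]
      exact ht.1
    | one => rw [mul_one, mul_inv_cancel]; exact one_mem _
    | mul x y _ _ hx hy =>
      have : ρ g * (x * y) * (ρ g)⁻¹ = (ρ g * x * (ρ g)⁻¹) * (ρ g * y * (ρ g)⁻¹) := by group
      rw [this]
      exact mul_mem hx hy
    | inv x _ hx =>
      have : ρ g * x⁻¹ * (ρ g)⁻¹ = (ρ g * x * (ρ g)⁻¹)⁻¹ := by group
      rw [this]
      exact inv_mem hx
  let R : Ω → ι → ι → Prop := fun α i j => ∃ x ∈ C α, x i = j
  have hR : ∀ α, Equivalence (R α) := fun α =>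
    { refl := fun i => ⟨1, one_mem _, rfl⟩
      symm := by
        rintro i j ⟨x, hx, rfl⟩
        exact ⟨x⁻¹, inv_mem hx, x.symm_apply_apply i⟩
      trans := by
        rintro i j k ⟨x, hx, rfl⟩ ⟨y, hy, rfl⟩
        exact ⟨y * x, mul_mem hy hx, rfl⟩ }
  have hRg1 : ∀ (g : G) α i j, R α i j → R (g • α) (ρ g i) (ρ g j) := by
    rintro g α i j ⟨x, hx, rfl⟩
    refine ⟨ρ g * x * (ρ g)⁻¹, hC g α x hx, ?_⟩
    show ρ g (x ((ρ g)⁻¹ (ρ g i))) = ρ g (x i)
    rw [PermutationGroups.PSBochert.inv_app]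
  have hRg : ∀ (g : G) α i j, R (g • α) (ρ g i) (ρ g j) ↔ R α i j := by
    intro g α i j
    refine ⟨fun h => ?_, hRg1 g α i j⟩
    have h1 := hRg1 g⁻¹ _ _ _ h
    rw [inv_smul_smul, map_inv, PermutationGroups.PSBochert.inv_app,
      PermutationGroups.PSBochert.inv_app] at h1
    exact h1
  -- a moved point is moved by a 3-cycle
  have hmove : ∀ α i j, i ≠ j → R α i j →
      ∃ t : Equiv.Perm ι, t.IsThreeCycle ∧ t ∈ C α ∧ t i ≠ i := by
    rintro α i j hij ⟨x, hx, hxi⟩
    by_contra hcon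
    push Not at hcon
    have hfix : ∀ x ∈ C α, x i = i := by
      intro x hx
      induction hx using Subgroup.closure_induction with
      | mem t ht => exact hcon t ht.1 (Subgroup.subset_closure ht)
      | one => rfl
      | mul x y _ _ hx hy => rw [Equiv.Perm.mul_apply, hy, hx]
      | inv x _ hx => rw [Equiv.Perm.inv_eq_iff_eq, hx]
    exact hij ((hfix x hx).symm.trans hxi)
  refine partition ρ hA h2 R hR hRg ?_ α ?_ ?_
  · intro α i j hij hRij
    obtain ⟨t, ht, htC, hti⟩ := hmove α i j hij hRij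
    have htti : t (t i) ≠ i := by
      intro h
      have := three_cube t ht i
      rw [h] at this
      exact hti this
    have htti' : t (t i) ≠ t i := fun h => hti (t.injective h)
    by_cases h : t i = j
    · refine ⟨t (t i), htti, by rw [← h]; exact htti', t * t, mul_mem htC htC, rfl⟩
    · exact ⟨t i, hti, h, t, htC, rfl⟩
  · obtain ⟨t, htM, ht⟩ := h3
    obtain ⟨i, hi⟩ : ∃ i, t i ≠ i := by
      by_contra hcon
      push Not at hcon
      exact ht.ne_one (Equiv.ext hcon)
    exact ⟨i, t i, Ne.symm hi, t, Subgroup.subset_closure ⟨ht, htM⟩, rfl⟩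
  · by_contra hcon
    push Not at hcon
    exact hM (alternating_le_of_transitive _ h3 fun i j => hcon i j)

end ThreeCycles

section Count

variable {G : Type*} [Group G] {Ω : Type*} [MulAction G Ω]

/-- **Counting lemma**: in a 2-transitive group of degree `n`, the number of the elements of a conjugation-invariant
set which move a given point is divisible by `n - 1`. -/
theorem dvd_moved [Finite G] [Finite Ω]
    (h2 : ∀ a b c d : Ω, a ≠ b → c ≠ d → ∃ g : G, g • a = c ∧ g • b = d) (K : Set G)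
    (hK : ∀ g k, k ∈ K → g * k * g⁻¹ ∈ K) (α : Ω) :
    (Nat.card Ω - 1) ∣ Nat.card {k : G // k ∈ K ∧ k • α ≠ α} := by
  classical
  haveI := Fintype.ofFinite G
  haveI := Fintype.ofFinite Ω
  rw [Nat.card_eq_fintype_card, Nat.card_eq_fintype_card, Fintype.card_subtype]
  have h1 := Finset.card_eq_sum_card_fiberwise (s := Finset.univ.filter fun k : G => k ∈ K ∧ k • α ≠ α)
    (t := Finset.univ.erase α) (f := fun k : G => k • α) (by
      intro k hk
      have := (Finset.mem_filter.1 hk).2.2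
      exact Finset.mem_coe.2 (Finset.mem_erase.2 ⟨this, Finset.mem_univ _⟩))
  rw [h1]
  by_cases hne : (Finset.univ.erase α).Nonempty
  · obtain ⟨β, hβ⟩ := hne
    have hβα : β ≠ α := (Finset.mem_erase.1 hβ).1
    rw [Finset.sum_const_nat (m := ((Finset.univ.filter fun k : G => k ∈ K ∧ k • α ≠ α).filter
      fun k => k • α = β).card)]
    · rw [Finset.card_erase_of_mem (Finset.mem_univ _), Finset.card_univ]
      exact dvd_mul_right _ _
    · intro γ hγ
      have hγα : γ ≠ α := (Finset.mem_erase.1 hγ).1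
      obtain ⟨g, hg1, hg2⟩ := h2 α γ α β (Ne.symm hγα) (Ne.symm hβα)
      have hgi : g⁻¹ • α = α := by rw [inv_smul_eq_iff, hg1]
      have hgi2 : g⁻¹ • β = γ := by rw [inv_smul_eq_iff, hg2]
      refine Finset.card_bij (fun k _ => g * k * g⁻¹) ?_ ?_ ?_
      · intro k hk
        simp only [Finset.mem_filter, Finset.mem_univ, true_and] at hk ⊢
        have h3 : (g * k * g⁻¹) • α = β := by rw [mul_smul, mul_smul, hgi, hk.2, hg2]
        exact ⟨⟨hK g k hk.1.1, by rw [h3]; exact hβα⟩, h3⟩
      · intro k _ k' _ h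
        exact mul_left_cancel (mul_right_cancel h)
      · intro k hk
        simp only [Finset.mem_filter, Finset.mem_univ, true_and] at hk
        refine ⟨g⁻¹ * k * g, ?_, by group⟩
        simp only [Finset.mem_filter, Finset.mem_univ, true_and]
        have h3 : (g⁻¹ * k * g) • α = γ := by rw [mul_smul, mul_smul, hg1, hk.2, hgi2]
        refine ⟨⟨?_, by rw [h3]; exact hγα⟩, h3⟩
        have := hK g⁻¹ k hk.1.1
        rwa [inv_inv] at this
  · rw [Finset.not_nonempty_iff_eq_empty] at hne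
    rw [hne, Finset.sum_empty]
    exact dvd_zero _

end Count

section Bochert

variable {ι : Type*} [Fintype ι] [DecidableEq ι]

/-- A group without 3-cycles has a base of at most half the points. -/
theorem exists_base' (G : Subgroup (Equiv.Perm ι)) (hG : ∀ g ∈ G, ¬ g.IsThreeCycle) :
    ∃ Δ : Finset ι, 2 * Δ.card ≤ Fintype.card ι ∧ ∀ g ∈ G, (∀ a ∈ Δ, g a = a) → g = 1 := by
  classical
  let P : Finset ι → Prop := fun Δ => ∀ g ∈ G, (∀ a ∈ Δ, g a = a) → g = 1
  have hP : (Finset.univ.filter P).Nonempty := ⟨Finset.univ, by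
    rw [Finset.mem_filter]
    refine ⟨Finset.mem_univ _, fun g _ hg => ?_⟩
    ext a
    exact hg a (Finset.mem_univ a)⟩
  obtain ⟨Δ, hΔ, hmin⟩ := Finset.exists_min_image _ (fun Δ : Finset ι => Δ.card) hP
  rw [Finset.mem_filter] at hΔ
  refine ⟨Δ, ?_, hΔ.2⟩
  by_contra hcon
  push Not at hcon
  have hlt : ∀ T : Finset ι, T.card < Δ.card → ∃ g ∈ G, (∀ a ∈ T, g a = a) ∧ g ≠ 1 := by
    intro T hT
    by_contra hcon2
    push Not at hcon2
    have := hmin T (by
      rw [Finset.mem_filter]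
      exact ⟨Finset.mem_univ _, hcon2⟩)
    omega
  obtain ⟨x, hxG, hx, hx1⟩ := hlt Δᶜ (by
    rw [Finset.card_compl]
    omega)
  obtain ⟨δ, hδ⟩ : ∃ δ, x δ ≠ δ := by
    by_contra hcon2
    push Not at hcon2
    exact hx1 (Equiv.ext hcon2)
  have hδΔ : δ ∈ Δ := by
    by_contra h
    exact hδ (hx δ (Finset.mem_compl.2 h))
  obtain ⟨y, hyG, hy, hy1⟩ := hlt (Δ.erase δ) (Finset.card_erase_lt_of_mem hδΔ)
  have hyδ : y δ ≠ δ := by
    intro h
    apply hy1
    apply hΔ.2 y hyG
    intro a ha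
    by_cases had : a = δ
    · rw [had]; exact h
    · exact hy a (Finset.mem_erase.2 ⟨had, ha⟩)
  have h3 : (x * y * x⁻¹ * y⁻¹).IsThreeCycle := by
    apply PermutationGroups.PSBochert.isThreeCycle_commutator x y δ hδ hyδ
    intro z hzx hzy
    have hzΔ : z ∈ Δ := by
      by_contra h
      exact hzx (hx z (Finset.mem_compl.2 h))
    by_contra hzδ
    exact hzy (hy z (Finset.mem_erase.2 ⟨hzδ, hzΔ⟩))
  exact hG _ (G.mul_mem (G.mul_mem (G.mul_mem hxG hyG) (G.inv_mem hxG)) (G.inv_mem hyG)) h3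

/-- **Bochert's bound** for groups without 3-cycles. -/
theorem bochert' (G : Subgroup (Equiv.Perm ι)) (hG : ∀ g ∈ G, ¬ g.IsThreeCycle) :
    Nat.card G * Nat.factorial ((Fintype.card ι + 1) / 2) ≤ Nat.factorial (Fintype.card ι) := by
  classical
  obtain ⟨Δ, hΔ, hbase⟩ := exists_base' G hG
  let S := {a : ι // a ∉ Δ}
  have hS : Fintype.card S = Fintype.card ι - Δ.card := by
    rw [Fintype.card_subtype_compl, Fintype.card_coe]
  let F : G × Equiv.Perm S → Equiv.Perm ι := fun p => p.1.1 * Equiv.Perm.ofSubtype p.2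
  have hfix : ∀ (σ : Equiv.Perm S) (a : ι), a ∈ Δ → Equiv.Perm.ofSubtype σ a = a := by
    intro σ a ha
    exact Equiv.Perm.ofSubtype_apply_of_not_mem σ (by simpa using ha)
  have hF : Function.Injective F := by
    rintro ⟨g, σ⟩ ⟨g', σ'⟩ h
    have h1 : g.1 * Equiv.Perm.ofSubtype σ = g'.1 * Equiv.Perm.ofSubtype σ' := h
    have h2 : g'.1⁻¹ * g.1 = Equiv.Perm.ofSubtype (σ' * σ⁻¹) := by
      rw [map_mul, map_inv]
      rw [inv_mul_eq_iff_eq_mul, ← mul_assoc, ← h1, mul_assoc, mul_inv_cancel, mul_one]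
    have h3 : g'.1⁻¹ * g.1 = 1 := by
      apply hbase _ (G.mul_mem (G.inv_mem g'.2) g.2)
      intro a ha
      rw [h2]
      exact hfix _ a ha
    have h4 : g.1 = g'.1 := by
      rw [inv_mul_eq_one] at h3; exact h3.symm
    have h5 : Equiv.Perm.ofSubtype σ = Equiv.Perm.ofSubtype σ' := by
      rw [h4] at h1
      exact mul_left_cancel h1
    rw [Prod.mk.injEq]
    exact ⟨Subtype.ext h4, Equiv.Perm.ofSubtype_injective h5⟩
  have h1 := Nat.card_le_card_of_injective F hF
  rw [Nat.card_prod, Nat.card_eq_fintype_card (α := Equiv.Perm S), Fintype.card_perm, hS,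
    Nat.card_eq_fintype_card (α := Equiv.Perm ι), Fintype.card_perm] at h1
  refine le_trans (Nat.mul_le_mul_left _ (Nat.factorial_le ?_)) h1
  omega

/-- The number of 3-cycles. -/
theorem card_threeCycles (hm : 3 ≤ Fintype.card ι) :
    Nat.card {t : Equiv.Perm ι // t.IsThreeCycle} * 3 =
      Fintype.card ι * (Fintype.card ι - 1) * (Fintype.card ι - 2) := by
  classical
  have h := Equiv.Perm.card_of_cycleType_mul_eq ι {3}
  rw [if_pos (by
    refine ⟨by simpa using hm, ?_⟩
    intro a ha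
    rw [Multiset.mem_singleton] at ha
    omega)] at h
  simp only [Multiset.sum_singleton, Multiset.prod_singleton, Multiset.toFinset_singleton,
    Finset.prod_singleton, Multiset.count_singleton_self, Nat.factorial_one, mul_one] at h
  have h1 : Nat.card {t : Equiv.Perm ι // t.IsThreeCycle} =
      (Finset.univ.filter fun g : Equiv.Perm ι => g.cycleType = {3}).card := by
    rw [Nat.card_eq_fintype_card, Fintype.card_subtype]
    congr 1
    ext g
    rw [Finset.mem_filter, Finset.mem_filter]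
    exact Iff.rfl
  rw [h1]
  obtain ⟨k, hk⟩ := Nat.exists_eq_add_of_le hm
  rw [hk] at h ⊢
  have e1 : 3 + k - 3 = k := by omega
  have e2 : 3 + k - 1 = k + 2 := by omega
  have e3 : 3 + k - 2 = k + 1 := by omega
  have e4 : 3 + k = (k + 2) + 1 := by omega
  rw [e1] at h
  rw [e2, e3]
  rw [e4, Nat.factorial_succ, Nat.factorial_succ, Nat.factorial_succ] at h
  have hpos := Nat.factorial_pos k
  apply Nat.eq_of_mul_eq_mul_right hpos
  rw [e4]
  linarith [h]

end Bochert

end Cfsg.Agent.H503.TwoAlt
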