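import Mathlib
import Cfsg.Agent.H384.TwoTrans
import Cfsg.Agent.H503.TwoAltA

/-!
# 2-transitive groups with simple socle: generic facts (transitivity of the socle, orbits of `T_α`)

Helper file for HUB H1, part P10 (helper503).
-/

set_option autoImplicit false

namespace Cfsg.Agent.H503.TwoAlt

open MulAction H384.TwoTrans
open scoped Pointwise

universe u v

variable {G : Type u} {Ω : Type v} [Group G] [MulAction G Ω] {T : Subgroup G}

theorem AS.h2 (A : AS G Ω T) : ∀ a b c d : Ω, a ≠ b → c ≠ d → ∃ g : G, g • a = c ∧ g • b = d :=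
  fun _ _ _ _ hab hcd => is_two_pretransitive_iff.1 A.two hab hcd

/-- The socle is transitive. -/
theorem AS.trans (A : AS G Ω T) : IsPretransitive T Ω := by
  haveI := A.normal
  haveI := A.faithful
  haveI := A.simple
  haveI : IsPreprimitive G Ω := isPreprimitive_of_is_two_pretransitive A.two
  apply IsQuasiPreprimitive.isPretransitive_of_normal (G := G) (X := Ω) (N := T)
  intro h
  haveI : Nontrivial T := inferInstance
  obtain ⟨t, ht⟩ := exists_ne (1 : T)
  apply ht
  apply Subtype.ext
  apply eq_of_smul_eq_smul (α := Ω)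
  intro x
  have : x ∈ fixedPoints T Ω := by rw [h]; exact Set.mem_univ x
  rw [OneMemClass.coe_one, one_smul]
  exact this t

/-- The degree of a nontrivial action. -/
theorem AS.two_le (A : AS G Ω T) : 2 ≤ Nat.card Ω := by
  haveI := A.finΩ
  haveI := A.faithful
  haveI := A.simple
  by_contra hcon
  have h1 : Nat.card Ω ≤ 1 := by omega
  haveI : Subsingleton Ω := Finite.card_le_one_iff_subsingleton.1 h1
  haveI : Nontrivial T := inferInstance
  obtain ⟨t, ht⟩ := exists_ne (1 : T)
  apply ht
  apply Subtype.ext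
  apply eq_of_smul_eq_smul (α := Ω)
  intro x
  exact Subsingleton.elim _ _

/-- The order of the socle. -/
theorem AS.card (A : AS G Ω T) (α : Ω) : Nat.card (stabilizer T α) * Nat.card Ω = Nat.card T := by
  haveI := AS.trans A
  rw [← index_stabilizer_of_transitive T α, Subgroup.card_mul_index]

/-- The socle embeds in the symmetric group. -/
theorem AS.card_le (A : AS G Ω T) : Nat.card T ≤ Nat.factorial (Nat.card Ω) := by
  haveI := A.finΩ
  haveI := A.finG
  haveI := A.faithful
  have h1 : Function.Injective (fun t : T => MulAction.toPermHom G Ω t.1) := by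
    intro s t h
    apply Subtype.ext
    exact MulAction.toPerm_injective h
  haveI : Finite (Equiv.Perm Ω) := inferInstance
  have h2 := Nat.card_le_card_of_injective _ h1
  rwa [Nat.card_perm] at h2

theorem AS.card_dvd (A : AS G Ω T) : Nat.card T ∣ Nat.factorial (Nat.card Ω) := by
  haveI := A.finΩ
  haveI := A.finG
  haveI := A.faithful
  have h1 : Function.Injective ((MulAction.toPermHom G Ω).comp T.subtype) := by
    intro s t h
    apply Subtype.ext
    exact MulAction.toPerm_injective h
  have h2 := Subgroup.card_dvd_of_injective _ h1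
  rwa [Nat.card_perm] at h2

/-- **The orbits of `T_α` on the other points**: all of them have the same length `ℓ > 1`, so if `n - 1` is a prime
not dividing `|T_α|` then `T_α = 1`. -/
theorem AS.stab_eq_one_of_prime (A : AS G Ω T) (α : Ω) (hp : (Nat.card Ω - 1).Prime)
    (hnd : ¬ (Nat.card Ω - 1) ∣ Nat.card (stabilizer T α)) : Nat.card (stabilizer T α) = 1 := by
  haveI := A.finΩ
  haveI := A.finG
  haveI := A.faithful
  haveI := A.normal
  set n := Nat.card Ω with hn
  -- the orbit of `T_α`
  have horb : ∀ β, β ≠ α → ∀ g ∈ stabilizer G α,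
      (orbit (stabilizer T α) (g • β)) = g • (orbit (stabilizer T α) β) := by
    intro β _ g hg
    have hg' : g • α = α := hg
    have hgi : g⁻¹ • α = α := by rw [inv_smul_eq_iff, hg']
    ext x
    constructor
    · rintro ⟨t, rfl⟩
      refine ⟨(g⁻¹ * t.1.1 * g) • β, ⟨⟨⟨g⁻¹ * t.1.1 * g, ?_⟩, ?_⟩, rfl⟩, ?_⟩
      · have := A.normal.conj_mem t.1.1 t.1.2 g⁻¹
        rwa [inv_inv] at this
      · show (g⁻¹ * t.1.1 * g) • α = α
        have h1 : t.1.1 • α = α := t.2
        rw [mul_smul, mul_smul, hg', h1, hgi]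
      · show g • (g⁻¹ * t.1.1 * g) • β = t.1.1 • g • β
        rw [mul_smul, mul_smul, smul_inv_smul]
    · rintro ⟨y, ⟨t, rfl⟩, rfl⟩
      refine ⟨⟨⟨g * t.1.1 * g⁻¹, A.normal.conj_mem t.1.1 t.1.2 g⟩, ?_⟩, ?_⟩
      · show (g * t.1.1 * g⁻¹) • α = α
        have h1 : t.1.1 • α = α := t.2
        rw [mul_smul, mul_smul, hgi, h1, hg']
      · show (g * t.1.1 * g⁻¹) • g • β = g • t.1.1 • β
        rw [mul_smul, mul_smul, inv_smul_smul]
  have hcard : ∀ β γ, β ≠ α → γ ≠ α →
      (orbit (stabilizer T α) β).ncard = (orbit (stabilizer T α) γ).ncard := by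
    intro β γ hβ hγ
    obtain ⟨g, hg1, hg2⟩ := AS.h2 A α β α γ (Ne.symm hβ) (Ne.symm hγ)
    rw [← hg2, horb β hβ g hg1, Set.ncard_smul_set]
  -- a point different from `α`
  obtain ⟨β, hβ⟩ : ∃ β, β ≠ α := by
    haveI : Nontrivial Ω := by
      rw [← Finite.one_lt_card_iff_nontrivial]
      have := AS.two_le A
      omega
    exact exists_ne α
  set ℓ := (orbit (stabilizer T α) β).ncard with hℓ
  -- `ℓ` divides the order of `T_α`
  have hℓ1 : ℓ ∣ Nat.card (stabilizer T α) := by
    have h1 : (stabilizer (stabilizer T α) β).index = ℓ := by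
      rw [hℓ, ← Nat.card_coe_set_eq]
      exact index_stabilizer (stabilizer T α) β
    rw [← h1]
    exact Subgroup.index_dvd_card _
  -- `ℓ` divides `n - 1`
  have hℓ2 : ℓ ∣ n - 1 := by
    classical
    haveI := Fintype.ofFinite Ω
    let Q := Quotient (orbitRel (stabilizer T α) Ω)
    haveI : Fintype Q := Fintype.ofFinite _
    let π : Ω → Q := Quotient.mk''
    have hfib : ∀ γ : Ω, γ ≠ α → (Finset.univ.filter fun δ => π δ = π γ).card = ℓ := by
      intro γ hγ
      rw [hℓ, hcard β γ hβ hγ, ← Set.ncard_coe_finset]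
      congr 1
      ext δ
      simp only [Finset.coe_filter, Finset.mem_univ, true_and, Set.mem_setOf_eq]
      rw [show (π δ = π γ) ↔ orbitRel (stabilizer T α) Ω δ γ from Quotient.eq'']
      exact orbitRel_apply
    have hfix : ∀ δ, π δ = π α → δ = α := by
      intro δ hδ
      rw [show (π δ = π α) ↔ orbitRel (stabilizer T α) Ω δ α from Quotient.eq''] at hδ
      obtain ⟨t, rfl⟩ := orbitRel_apply.1 hδ
      exact t.2
    have h1 := Finset.card_eq_sum_card_fiberwise (s := Finset.univ.erase α)
      (t := Finset.univ.erase (π α)) (f := π) (by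
        intro δ hδ
        have h1 := (Finset.mem_erase.1 hδ).1
        exact Finset.mem_coe.2 (Finset.mem_erase.2 ⟨fun h => h1 (hfix δ h), Finset.mem_univ _⟩))
    rw [Finset.card_erase_of_mem (Finset.mem_univ _), Finset.card_univ] at h1
    rw [hn, Nat.card_eq_fintype_card, h1]
    apply Finset.dvd_sum
    intro q hq
    obtain ⟨γ, rfl⟩ := Quotient.exists_rep q
    have hγ : γ ≠ α := by
      rintro rfl
      exact (Finset.mem_erase.1 hq).1 rfl
    rw [← hfib γ hγ]
    apply dvd_of_eq
    congr 1
    ext δ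
    simp only [Finset.mem_filter, Finset.mem_erase, Finset.mem_univ, and_true, true_and]
    constructor
    · intro h
      refine ⟨?_, h⟩
      rintro rfl
      exact (Finset.mem_erase.1 hq).1 h.symm
    · exact fun h => h.2
  rcases (Nat.dvd_prime hp).1 hℓ2 with h | h
  · -- `T_α` fixes everything
    rw [Nat.card_eq_one_iff_unique]
    refine ⟨⟨fun s t => ?_⟩, ⟨1⟩⟩
    have hfix : ∀ (s : stabilizer T α) (γ : Ω), s.1.1 • γ = γ := by
      intro s γ
      by_cases hγ : γ = α
      · rw [hγ]; exact s.2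
      · have h1 : (orbit (stabilizer T α) γ).ncard = 1 := by rw [← hcard β γ hβ hγ]; exact h
        obtain ⟨δ, hδ⟩ := Set.ncard_eq_one.1 h1
        have h2 : s.1.1 • γ ∈ orbit (stabilizer T α) γ := ⟨s, rfl⟩
        have h3 : γ ∈ orbit (stabilizer T α) γ := mem_orbit_self γ
        rw [hδ] at h2 h3
        rw [Set.mem_singleton_iff.1 h2, ← Set.mem_singleton_iff.1 h3]
    apply Subtype.ext
    apply Subtype.ext
    apply eq_of_smul_eq_smul (α := Ω)
    intro γ
    rw [hfix s, hfix t]
  · exact absurd (h ▸ hℓ1) hnd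

/-- The counting lemma for the elements of given order of `T`. -/
theorem AS.dvd_moved_order (A : AS G Ω T) (α : Ω) (k N f : ℕ)
    (hN : Nat.card {t : T // orderOf t = k} = N)
    (hf : Nat.card {t : stabilizer T α // orderOf t = k} = f) : (Nat.card Ω - 1) ∣ N - f := by
  classical
  haveI := A.finΩ
  haveI := A.finG
  have h1 := dvd_moved (AS.h2 A) {g : G | g ∈ T ∧ orderOf g = k} (by
    rintro g x ⟨hx, hk⟩
    refine ⟨A.normal.conj_mem x hx g, ?_⟩
    rw [← hk]
    exact (MulAut.conj g).orderOf_eq x) α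
  have e1 : {t : T // orderOf t = k} ≃
      {x : G // x ∈ ({g : G | g ∈ T ∧ orderOf g = k} : Set G) ∧ x • α ≠ α} ⊕
        {t : stabilizer T α // orderOf t = k} :=
    { toFun := fun t => if h : t.1.1 • α = α then Sum.inr ⟨(⟨t.1, h⟩ : stabilizer T α), by
          have h5 : orderOf ((⟨t.1, h⟩ : stabilizer T α) : T) = k := t.2
          rwa [Subgroup.orderOf_coe] at h5⟩
        else Sum.inl ⟨t.1.1, ⟨t.1.2, by rw [Subgroup.orderOf_coe, t.2]⟩, h⟩
      invFun := fun x => match x with
        | Sum.inl x => ⟨⟨x.1, x.2.1.1⟩, by rw [← Subgroup.orderOf_coe]; exact x.2.1.2⟩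
        | Sum.inr t => ⟨t.1.1, by rw [Subgroup.orderOf_coe, t.2]⟩
      left_inv := by
        intro t
        by_cases h : t.1.1 • α = α
        · simp [h]
        · simp [h]
      right_inv := by
        rintro (x | t)
        · simp [x.2.2]
        · have h : t.1.1.1 • α = α := t.1.2
          simp [h] }
  have h2 := Nat.card_congr e1
  rw [Nat.card_sum, hN, hf] at h2
  have h3 : N - f = Nat.card {x : G // x ∈ ({g : G | g ∈ T ∧ orderOf g = k} : Set G) ∧ x • α ≠ α} := by
    omega
  rw [h3]
  exact h1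

end Cfsg.Agent.H503.TwoAlt
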