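import Mathlib
import Cfsg.Agent.S4036
import Cfsg.Agent.S0058
import Cfsg.Agent.S0126
import Cfsg.Agent.Lib.SolvableMinNormal

/-!
# Groups acting on abelian groups such that all non-identity elements have the same fixed points
-/

set_option autoImplicit false

namespace Cfsg.Agent.H503.CommonFix

open Subgroup

/-- The group `W` acts on `R` by `ψ`; the non-identity elements all have `F` as fixed points, and
`F` is proper. -/
structure CF {W R : Type*} [Group W] [CommGroup R] (ψ : W →* MulAut R) (F : Subgroup R) : Prop where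
  fix : ∀ w, w ≠ 1 → ∀ v, ψ w v = v ↔ v ∈ F
  ne : F ≠ ⊤

variable {W : Type*} [Group W]

section basic

variable {R : Type*} [CommGroup R] {ψ : W →* MulAut R} {F : Subgroup R}

theorem CF.injective (h : CF ψ F) : Function.Injective ψ := by
  rw [injective_iff_map_eq_one]
  intro w hw
  by_contra hne
  apply h.ne
  rw [eq_top_iff]
  intro v _
  rw [← h.fix w hne v, hw]
  rfl

theorem CF.comp (h : CF ψ F) {V : Type*} [Group V] (f : V →* W) (hf : Function.Injective f) :
    CF (ψ.comp f) F := by
  refine ⟨fun w hw v => ?_, h.ne⟩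
  rw [MonoidHom.comp_apply]
  apply h.fix
  intro h1
  exact hw (hf (by rw [h1, map_one]))

/-- (S4036) a normal subgroup of order prime to `q` is trivial, if `R` is a `q`-group and `q` divides
the order of `W`. -/
theorem CF.normal_eq_bot [Finite R] [Finite W] (h : CF ψ F) {q : ℕ} [hq : Fact q.Prime]
    (hR : IsPGroup q R) (hW : q ∣ Nat.card W) (N : Subgroup W) [hN : N.Normal]
    (hNq : ¬ q ∣ Nat.card N) : N = ⊥ := by
  have hinj := h.injective
  let e : W ≃* ψ.range := MonoidHom.ofInjective hinj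
  have h1 := Cfsg.Agent.S4036.result hR ψ.range (by rwa [← Nat.card_congr e.toEquiv]) (by
    rintro _ _ ⟨x, rfl⟩ ⟨y, rfl⟩ hx hy v
    rw [h.fix x (by rintro rfl; exact hx (map_one ψ)), h.fix y (by rintro rfl; exact hy (map_one ψ))])
    (N.map e.toMonoidHom) (hN.map _ e.surjective) (by
      have h2 : Nat.card (N.map e.toMonoidHom) = Nat.card N :=
        (Nat.card_congr (N.equivMapOfInjective e.toMonoidHom e.injective).toEquiv).symm
      rwa [h2])
  exact (Subgroup.map_eq_bot_iff_of_injective N (f := e.toMonoidHom) e.injective).mp h1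

/-- A commutative subgroup whose order is prime to that of `R` is cyclic. -/
theorem CF.isCyclic_of_comm [Finite R] [Finite W] (h : CF ψ F) (A : Subgroup W)
    (hA : IsMulCommutative A) (hcop : (Nat.card A).Coprime (Nat.card R)) : IsCyclic A := by
  by_contra hnc
  let G := R ⋊[ψ] W
  have : Finite G := Finite.of_equiv _ SemidirectProduct.equivProd.symm
  let K : Subgroup G := (SemidirectProduct.inl : R →* G).range
  let A' : Subgroup G := A.map (SemidirectProduct.inr : W →* G)
  have hinr : Function.Injective (SemidirectProduct.inr : W →* G) :=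
    SemidirectProduct.inr_injective
  let eA : A ≃* A' := A.equivMapOfInjective _ hinr
  have hA' : IsMulCommutative A' := by
    refine ⟨⟨fun a b => ?_⟩⟩
    obtain ⟨a, rfl⟩ := eA.surjective a
    obtain ⟨b, rfl⟩ := eA.surjective b
    rw [← map_mul, ← map_mul, hA.is_comm.comm]
  have hA'c : ¬ IsCyclic A' := by
    intro hc
    exact hnc (isCyclic_of_surjective eA.symm eA.symm.surjective)
  have hAK : A' ≤ normalizer (K : Set G) := by
    have : K.Normal := by
      have : K = (SemidirectProduct.rightHom : G →* W).ker := SemidirectProduct.range_inl_eq_ker_rightHom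
      rw [this]; infer_instance
    rw [normalizer_eq_top]
    exact le_top
  have hcop' : (Nat.card A').Coprime (Nat.card K) := by
    rw [← Nat.card_congr eA.toEquiv, ← Nat.card_congr
      (MonoidHom.ofInjective (SemidirectProduct.inl_injective (φ := ψ))).toEquiv]
    exact hcop
  have hgen := Cfsg.Agent.S0058.result A' K hA'c hAK hcop'
  have hle : K ≤ F.map (SemidirectProduct.inl : R →* G) := by
    rw [← hgen]
    refine iSup₂_le ?_
    rintro a ⟨ha, ha1⟩
    obtain ⟨w, hw, rfl⟩ := ha
    rintro x ⟨⟨v, rfl⟩, hx⟩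
    refine ⟨v, ?_, rfl⟩
    have hw1 : w ≠ 1 := by rintro rfl; exact ha1 (map_one _)
    rw [SetLike.mem_coe, ← h.fix w hw1 v]
    have hx' := mem_centralizer_singleton_iff.mp hx
    have h2 : (SemidirectProduct.inl (ψ w v) : G) = SemidirectProduct.inl v := by
      rw [SemidirectProduct.inl_aut, ← hx', mul_assoc, ← map_mul, mul_inv_cancel, map_one, mul_one]
    exact SemidirectProduct.inl_injective h2
  apply h.ne
  rw [eq_top_iff]
  intro v _
  obtain ⟨u, hu, huv⟩ := hle ⟨v, rfl⟩
  rwa [← SemidirectProduct.inl_injective huv]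

/-- The Sylow subgroups for odd primes not dividing `|R|` are cyclic. -/
theorem CF.isCyclic_of_isPGroup [Finite R] [Finite W] (h : CF ψ F) {s r : ℕ} [hs : Fact s.Prime]
    [hr : Fact r.Prime] (hsr : s ≠ r) (hR : IsPGroup r R) (hs2 : s ≠ 2) (S : Subgroup W)
    (hS : IsPGroup s S) : IsCyclic S := by
  by_contra hnc
  obtain ⟨A, -, hA, hAc⟩ := Cfsg.Agent.S0126.result hs2 hS hnc
  have hcop : (Nat.card A).Coprime (Nat.card R) := by
    obtain ⟨n, hn⟩ := IsPGroup.iff_card.mp hR
    rw [hAc, hn]
    exact Nat.Coprime.pow _ _ ((Nat.coprime_primes hs.out hr.out).mpr hsr)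
  have h1 : IsCyclic A := (h.comp S.subtype S.subtype_injective).isCyclic_of_comm A hA.1 hcop
  have h2 := h1.exponent_eq_card
  have h3 : Monoid.exponent A ∣ s := by
    rw [Monoid.exponent_dvd_iff_forall_pow_eq_one]
    intro a
    exact Subtype.ext (hA.2 a a.2)
  rw [h2, hAc] at h3
  have h4 := Nat.le_of_dvd hs.out.pos h3
  have h5 := hs.out.one_lt
  nlinarith

/-- The product of two involutions moves elements by elements of `F`. -/
theorem CF.pow_card_eq_one [Finite R] (h : CF ψ F) {a b : W} (ha : a ≠ 1) (hb : b ≠ 1)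
    (ha2 : a ^ 2 = 1) (hb2 : b ^ 2 = 1) : (a * b) ^ Nat.card R = 1 := by
  apply h.injective
  rw [map_one, map_pow]
  have hinv : ∀ c : W, c ≠ 1 → c ^ 2 = 1 → ∀ v, v * ψ c v ∈ F := by
    intro c hc hc2 v
    rw [← h.fix c hc, map_mul, ← MulAut.mul_apply, ← map_mul, ← pow_two, hc2, map_one,
      MulAut.one_apply, mul_comm]
  have hF : ∀ c : W, ∀ v ∈ F, ψ c v = v := by
    intro c v hv
    by_cases hc : c = 1
    · rw [hc, map_one]; rfl
    · exact (h.fix c hc v).mpr hv
  -- `ψ (a b) v = v * f` with `f ∈ F`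
  have hmove : ∀ v, (ψ (a * b) v) * v⁻¹ ∈ F := by
    intro v
    have h1 := hinv b hb hb2 v
    have h2 := hinv a ha ha2 (ψ b v)
    rw [map_mul, MulAut.mul_apply]
    have h3 : ψ a (ψ b v) * v⁻¹ = (ψ b v * ψ a (ψ b v)) * (v * ψ b v)⁻¹ := by
      rw [mul_inv, mul_comm (ψ b v), mul_assoc, mul_comm v⁻¹, ← mul_assoc (ψ b v), mul_inv_cancel,
        one_mul]
    rw [h3]
    exact mul_mem h2 (inv_mem h1)
  ext v
  have hpow : ∀ n : ℕ, (ψ (a * b) ^ n) v = v * ((ψ (a * b) v) * v⁻¹) ^ n := by
    intro n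
    induction n with
    | zero => simp
    | succ n ih =>
      rw [pow_succ', MulAut.mul_apply, ih, map_mul, map_pow, hF _ _ (hmove v), pow_succ]
      rw [mul_comm _ (ψ (a * b) v * v⁻¹), ← mul_assoc v, mul_comm (ψ (a * b) v) v⁻¹,
        ← mul_assoc v, mul_inv_cancel, one_mul]
  rw [hpow, pow_card_eq_one', mul_one]
  rfl

end basic

/-- **No group of order divisible by two primes acts like this on groups for both primes.** -/
theorem false_of_two [Finite W] {q₁ q₂ : ℕ} [hq₁ : Fact q₁.Prime] [hq₂ : Fact q₂.Prime]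
    (hne : q₁ ≠ q₂) (h₁ : q₁ ∣ Nat.card W) (h₂ : q₂ ∣ Nat.card W)
    {R₁ R₂ : Type*} [CommGroup R₁] [Finite R₁] [CommGroup R₂] [Finite R₂]
    (hR₁ : IsPGroup q₁ R₁) (hR₂ : IsPGroup q₂ R₂)
    {ψ₁ : W →* MulAut R₁} {F₁ : Subgroup R₁} (hc₁ : CF ψ₁ F₁)
    {ψ₂ : W →* MulAut R₂} {F₂ : Subgroup R₂} (hc₂ : CF ψ₂ F₂) : False := by
  -- every normal subgroup of prime power order is trivial
  have hnil : ∀ (s : ℕ) (N : Subgroup W), s.Prime → N.Normal → IsPGroup s N → N = ⊥ := by
    intro s N hs hN hNs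
    have := Fact.mk hs
    obtain ⟨n, hn⟩ := IsPGroup.iff_card.mp hNs
    by_cases h : s = q₁
    · apply hc₂.normal_eq_bot hR₂ h₂ N
      rw [hn]
      intro hd
      exact hne (h.symm.trans ((Nat.prime_dvd_prime_iff_eq hq₂.out hs).mp
        (hq₂.out.dvd_of_dvd_pow hd)).symm)
    · apply hc₁.normal_eq_bot hR₁ h₁ N
      rw [hn]
      intro hd
      exact h ((Nat.prime_dvd_prime_iff_eq hq₁.out hs).mp (hq₁.out.dvd_of_dvd_pow hd)).symm
  have hnt : Nontrivial W := by
    rw [← Finite.one_lt_card_iff_nontrivial]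
    exact lt_of_lt_of_le hq₁.out.one_lt (Nat.le_of_dvd Nat.card_pos h₁)
  by_cases heven : 2 ∣ Nat.card W
  · have : Fact (Nat.Prime 2) := ⟨Nat.prime_two⟩
    obtain ⟨a, ha⟩ := exists_prime_orderOf_dvd_card' 2 heven
    have ha1 : a ≠ 1 := by rintro rfl; simp at ha
    have ha2 : a ^ 2 = 1 := by rw [← ha]; exact pow_orderOf_eq_one a
    have huniq : ∀ b : W, b ≠ 1 → b ^ 2 = 1 → b = a := by
      intro b hb hb2
      have h1 := hc₁.pow_card_eq_one ha1 hb ha2 hb2
      have h2 := hc₂.pow_card_eq_one ha1 hb ha2 hb2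
      obtain ⟨n, hn⟩ := IsPGroup.iff_card.mp hR₁
      obtain ⟨k, hk⟩ := IsPGroup.iff_card.mp hR₂
      have hcop : (Nat.card R₁).Coprime (Nat.card R₂) := by
        rw [hn, hk]
        exact Nat.Coprime.pow _ _ ((Nat.coprime_primes hq₁.out hq₂.out).mpr hne)
      have h3 : orderOf (a * b) ∣ 1 := by
        rw [← hcop]
        exact Nat.dvd_gcd (orderOf_dvd_of_pow_eq_one h1) (orderOf_dvd_of_pow_eq_one h2)
      have h4 : a * b = 1 := by
        rw [← orderOf_eq_one_iff]
        exact Nat.dvd_one.mp h3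
      have h5 : a = a⁻¹ := by
        rw [eq_inv_iff_mul_eq_one, ← pow_two, ha2]
      rw [h5]
      exact (inv_eq_of_mul_eq_one_right h4).symm
    have hN : (zpowers a).Normal := by
      refine ⟨fun n hn g => ?_⟩
      obtain ⟨k, rfl⟩ := hn
      have h6 : g * a * g⁻¹ = a := by
        apply huniq
        · intro h
          apply ha1
          rwa [mul_inv_eq_one, mul_eq_left] at h
        · rw [conj_pow, ha2, mul_one, mul_inv_cancel]
      refine ⟨k, ?_⟩
      show a ^ k = g * a ^ k * g⁻¹
      rw [← conj_zpow, h6]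
    have h7 := hnil 2 (zpowers a) Nat.prime_two hN (IsPGroup.of_card (n := 1) (by
      rw [Nat.card_zpowers, ha, pow_one]))
    exact ha1 (zpowers_eq_bot.mp h7)
  · have hZ : IsZGroup W := by
      refine ⟨fun s hs S => ?_⟩
      have := Fact.mk hs
      by_cases hs2 : s = 2
      · subst hs2
        have : (S : Subgroup W) = ⊥ := by
          obtain ⟨n, hn⟩ := IsPGroup.iff_card.mp S.isPGroup'
          rw [← Subgroup.card_eq_one, hn]
          rcases Nat.eq_zero_or_pos n with rfl | h0
          · simp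
          · exfalso
            apply heven
            have h8 := Subgroup.card_subgroup_dvd_card (S : Subgroup W)
            rw [hn] at h8
            exact (dvd_pow_self 2 h0.ne').trans h8
        rw [this]
        infer_instance
      · by_cases h : s = q₁
        · exact hc₂.isCyclic_of_isPGroup (h ▸ hne) hR₂ hs2 _ S.isPGroup'
        · exact hc₁.isCyclic_of_isPGroup h hR₁ hs2 _ S.isPGroup'
    obtain ⟨s, hs, N, hNc, -, hNs, hNne⟩ :=
      Cfsg.Agent.Lib.SolvableMinNormal.exists_characteristic_pgroup (G := W)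
    exact hNne (hnil s N hs inferInstance hNs)

end Cfsg.Agent.H503.CommonFix
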