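import Mathlib
import Cfsg.Agent.H503.Basic
import Cfsg.Agent.H503.CommonFix

/-!
# Groups whose non-central `p`-regular elements have centralizers of the same order, I

`typeI`: if non-central `q`-elements exist for two primes `q ≠ p` then all the `p`-regular elements of
the centralizer of a non-central `p`-regular element are central in it.
-/

set_option autoImplicit false

namespace Cfsg.Agent.H503.TwoReg

open Subgroup

variable {G : Type*} [Group G]

/-- Non-central `p`-regular elements. -/
def PR (p : ℕ) (x : G) : Prop := (orderOf x).Coprime p ∧ x ∉ center G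

/-- The non-central `p`-regular elements have `m` conjugates. -/
def HH (G : Type*) [Group G] (p m : ℕ) : Prop :=
  ∀ x : G, PR p x → (centralizer ({x} : Set G)).index = m

theorem mem_center_iff_centralizer {x : G} : x ∈ center G ↔ centralizer ({x} : Set G) = ⊤ := by
  rw [eq_top_iff, mem_center_iff]
  constructor
  · intro h g _
    exact mem_centralizer_singleton_iff.mpr (h g)
  · intro h g
    exact mem_centralizer_singleton_iff.mp (h (mem_top g))

theorem centralizer_le_of_mem_zpowers {x y : G} (h : y ∈ zpowers x) :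
    centralizer ({x} : Set G) ≤ centralizer ({y} : Set G) := by
  obtain ⟨k, rfl⟩ := h
  intro g hg
  rw [mem_centralizer_singleton_iff] at hg ⊢
  exact (Commute.zpow_right hg k : Commute g (x ^ k))

theorem left_mem_zpowers_mul {y u : G} (hc : Commute y u) (hcop : (orderOf y).Coprime (orderOf u)) :
    y ∈ zpowers (y * u) := by
  obtain ⟨n, hn1, hn2⟩ := Nat.chineseRemainder hcop 1 0
  refine ⟨(n : ℤ), ?_⟩
  show (y * u) ^ (n : ℤ) = y
  rw [zpow_natCast, hc.mul_pow]
  have h1 : y ^ n = y ^ 1 := pow_eq_pow_iff_modEq.mpr hn1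
  have h2 : u ^ n = u ^ 0 := pow_eq_pow_iff_modEq.mpr hn2
  rw [h1, h2, pow_one, pow_zero, mul_one]

theorem right_mem_zpowers_mul {y u : G} (hc : Commute y u) (hcop : (orderOf y).Coprime (orderOf u)) :
    u ∈ zpowers (y * u) := by
  rw [hc.eq]
  exact left_mem_zpowers_mul hc.symm hcop.symm

variable [Finite G] {p m : ℕ}

theorem HH.eq_of_le (h : HH G p m) {x y : G} (hx : PR p x) (hy : PR p y)
    (hle : centralizer ({x} : Set G) ≤ centralizer ({y} : Set G)) :
    centralizer ({x} : Set G) = centralizer ({y} : Set G) := by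
  apply Subgroup.eq_of_le_of_card_ge hle
  have h1 := (centralizer ({x} : Set G)).card_mul_index
  have h2 := (centralizer ({y} : Set G)).card_mul_index
  rw [h x hx] at h1
  rw [h y hy, ← h1] at h2
  have hm : 0 < m := by
    rw [← h x hx]
    exact Nat.pos_of_ne_zero Subgroup.index_ne_zero_of_finite
  exact (Nat.eq_of_mul_eq_mul_right hm h2).le

/-- The basic step. -/
theorem HH.le_step (h : HH G p m) {y u : G} (hy : PR p y) (hc : Commute y u)
    (hup : (orderOf u).Coprime p) (hus : (orderOf y).Coprime (orderOf u)) :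
    centralizer ({y} : Set G) ≤ centralizer ({u} : Set G) := by
  have h1 := centralizer_le_of_mem_zpowers (left_mem_zpowers_mul hc hus)
  have h2 := centralizer_le_of_mem_zpowers (right_mem_zpowers_mul hc hus)
  have hyu : PR p (y * u) := by
    refine ⟨?_, fun hcen => hy.2 ?_⟩
    · rw [hc.orderOf_mul_eq_mul_orderOf_of_coprime hus]
      exact Nat.Coprime.mul_left hy.1 hup
    · rw [mem_center_iff_centralizer] at hcen ⊢
      rw [hcen] at h1
      exact top_le_iff.mp h1
  rw [← h.eq_of_le hyu hy h1]
  exact h2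

/-- A non-central `p`-regular element has a non-central power of prime power order. -/
theorem exists_primary : ∀ (n : ℕ) (x : G), orderOf x = n → PR p x →
    ∃ s : ℕ, s.Prime ∧ s ≠ p ∧ ∃ y ∈ zpowers x, PR p y ∧ ∃ k, y ^ s ^ k = 1 := by
  intro n
  induction n using Nat.strong_induction_on with
  | _ n ih =>
    intro x hxn hx
    have hx1 : orderOf x ≠ 1 := by
      intro h1
      apply hx.2
      rw [orderOf_eq_one_iff] at h1
      rw [h1]
      exact one_mem _
    have hs : (orderOf x).minFac.Prime := Nat.minFac_prime hx1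
    set s := (orderOf x).minFac with hsdef
    have hsd : s ∣ orderOf x := Nat.minFac_dvd _
    have hsp : s ≠ p := by
      intro h
      have : s ∣ 1 := by
        rw [← hx.1]
        exact Nat.dvd_gcd hsd (h ▸ dvd_rfl)
      exact hs.one_lt.ne' (Nat.dvd_one.mp this)
    obtain ⟨a, b, ha, hb, hab, ⟨k, hk⟩, hbs⟩ :=
      Cfsg.Agent.OddOrderLocal.CNBasic.exists_mul_parts hs x
    have hord : ∀ c ∈ zpowers x, orderOf c ∣ orderOf x := by
      intro c hc
      exact orderOf_dvd_of_mem_zpowers hc
    by_cases hac : a ∈ center G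
    · have hbc : b ∉ center G := by
        intro hbc
        apply hx.2
        rw [← hab]
        exact mul_mem hac hbc
      have hlt : orderOf b < n := by
        rw [← hxn]
        refine lt_of_le_of_ne (Nat.le_of_dvd (orderOf_pos x) (hord b hb)) ?_
        intro h
        have : s ∣ 1 := by
          rw [← hbs]
          exact Nat.dvd_gcd (h ▸ hsd) dvd_rfl
        exact hs.one_lt.ne' (Nat.dvd_one.mp this)
      obtain ⟨s', hs', hsp', y, hy, hyP, hyk⟩ := ih _ hlt b rfl
        ⟨Nat.Coprime.coprime_dvd_left (hord b hb) hx.1, hbc⟩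
      exact ⟨s', hs', hsp', y, (zpowers_le.mpr hb) hy, hyP, hyk⟩
    · exact ⟨s, hs, hsp, a, ha, ⟨Nat.Coprime.coprime_dvd_left (hord a ha) hx.1, hac⟩, k, hk⟩

theorem coprime_of_pow {s t k : ℕ} (hs : s.Prime) (hst : s.Coprime t) {y : G} (hy : y ^ s ^ k = 1) :
    (orderOf y).Coprime t :=
  Nat.Coprime.coprime_dvd_left (orderOf_dvd_of_pow_eq_one hy) (Nat.Coprime.pow_left k hst)

/-- The centralizer of a non-central `p`-regular element contains a non-central `r`-element, if there is
one in `G`, `r ≠ p`. -/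
theorem HH.exists_mem (h : HH G p m) {r : ℕ} (hr : r.Prime) {y v : G} (hy : PR p y) (hv : PR p v)
    (hvr : ∃ k, v ^ r ^ k = 1) : ∃ w : G, Commute w y ∧ PR p w ∧ ∃ k, w ^ r ^ k = 1 := by
  have := Fact.mk hr
  by_contra hcon
  push Not at hcon
  have hcard : Nat.card (centralizer ({y} : Set G)) = Nat.card (centralizer ({v} : Set G)) := by
    have h1 := (centralizer ({y} : Set G)).card_mul_index
    have h2 := (centralizer ({v} : Set G)).card_mul_index
    rw [h y hy] at h1
    rw [h v hv, ← h1] at h2
    have hm : 0 < m := by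
      rw [← h y hy]
      exact Nat.pos_of_ne_zero Subgroup.index_ne_zero_of_finite
    exact (Nat.eq_of_mul_eq_mul_right hm h2).symm
  obtain ⟨kv, hkv⟩ := hvr
  have hrp : r.Coprime p := by
    rw [Nat.coprime_comm]
    by_contra hnc
    have hdv : r ∣ orderOf v := by
      obtain ⟨j, -, hj⟩ := (Nat.dvd_prime_pow hr).mp (orderOf_dvd_of_pow_eq_one hkv)
      rcases Nat.eq_zero_or_pos j with rfl | hj0
      · exfalso
        apply hv.2
        rw [pow_zero, orderOf_eq_one_iff] at hj
        rw [hj]; exact one_mem _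
      · rw [hj]; exact dvd_pow_self r hj0.ne'
    apply hnc
    exact Nat.Coprime.coprime_dvd_right hdv hv.1.symm
  let S : Sylow r (centralizer ({y} : Set G)) := default
  let S' : Subgroup G := (S : Subgroup (centralizer ({y} : Set G))).map (centralizer ({y} : Set G)).subtype
  have hS' : S' ≤ center G := by
    rintro _ ⟨w, hw, rfl⟩
    by_contra hwc
    obtain ⟨k, hk⟩ := S.isPGroup' ⟨w, hw⟩
    have hk' : (w : G) ^ r ^ k = 1 := by
      have := congrArg (fun z => ((z : (centralizer ({y} : Set G))) : G)) (congrArg Subtype.val hk)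
      simpa using this
    refine hcon w ?_ ⟨coprime_of_pow hr hrp hk', hwc⟩ k hk'
    exact mem_centralizer_singleton_iff.mp w.2
  have hS'card : Nat.card S' = r ^ (Nat.card (centralizer ({y} : Set G))).factorization r := by
    rw [Subgroup.card_subtype, S.card_eq_multiplicity]
  have hS'p : IsPGroup r S' := by
    apply IsPGroup.of_card hS'card
  have hn : S'.Normal := by
    refine ⟨fun n hn g => ?_⟩
    have := mem_center_iff.mp (hS' hn) g
    rw [this, mul_inv_cancel_right]
    exact hn
  have hvp : IsPGroup r (zpowers v) := by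
    apply IsPGroup.of_card_dvd_pow (n := kv)
    rw [Nat.card_zpowers]
    exact orderOf_dvd_of_pow_eq_one hkv
  have hT : IsPGroup r (S' ⊔ zpowers v : Subgroup G) := IsPGroup.to_sup_of_normal_left hS'p hvp
  have hTle : S' ⊔ zpowers v ≤ centralizer ({v} : Set G) := by
    refine sup_le (hS'.trans (center_le_centralizer _)) ?_
    rw [zpowers_le, mem_centralizer_singleton_iff]
  have hTcard : Nat.card (S' ⊔ zpowers v : Subgroup G) ≤ Nat.card S' := by
    obtain ⟨n, hn⟩ := IsPGroup.iff_card.mp hT
    have h3 := Subgroup.card_dvd_of_le hTle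
    rw [hn, hS'card]
    rw [hn] at h3
    apply Nat.pow_le_pow_right hr.pos
    rw [hcard]
    exact (Nat.Prime.pow_dvd_iff_le_factorization hr Nat.card_pos.ne').mp h3
  have heq : S' = S' ⊔ zpowers v := Subgroup.eq_of_le_of_card_ge le_sup_left hTcard
  apply hv.2
  apply hS'
  rw [heq]
  exact mem_sup_right (mem_zpowers v)

/-- **All `p`-regular elements of `C(x)` are central in `C(x)`.** -/
theorem HH.typeI (h : HH G p m) {q₁ q₂ : ℕ} (hq₁ : q₁.Prime) (hq₂ : q₂.Prime) (hne : q₁ ≠ q₂)
    (hp : p.Prime)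
    {v₁ v₂ : G} (hv₁ : PR p v₁) (hv₂ : PR p v₂) (h₁ : ∃ k, v₁ ^ q₁ ^ k = 1) (h₂ : ∃ k, v₂ ^ q₂ ^ k = 1)
    {x u : G} (hx : PR p x) (hu : (orderOf u).Coprime p) (hc : Commute x u) :
    centralizer ({x} : Set G) ≤ centralizer ({u} : Set G) := by
  obtain ⟨s, hs, hsp, y, hyx, hy, ⟨k, hk⟩⟩ := exists_primary (orderOf x) x rfl hx
  have hxy := h.eq_of_le hx hy (centralizer_le_of_mem_zpowers hyx)
  have hcy : ∀ {w : G}, Commute w y ↔ Commute w x := by
    intro w
    have := SetLike.ext_iff.mp hxy w
    rw [mem_centralizer_singleton_iff, mem_centralizer_singleton_iff] at this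
    exact this.symm
  obtain ⟨r, hr, hrs, v, hv, hvr⟩ : ∃ r : ℕ, r.Prime ∧ r ≠ s ∧ ∃ v : G, PR p v ∧ ∃ k, v ^ r ^ k = 1 := by
    by_cases hsq : q₁ = s
    · exact ⟨q₂, hq₂, fun h => hne (hsq.trans h.symm), v₂, hv₂, h₂⟩
    · exact ⟨q₁, hq₁, hsq, v₁, hv₁, h₁⟩
  have hrp : r ≠ p := by
    rintro rfl
    obtain ⟨j, hj⟩ := hvr
    obtain ⟨i, -, hi⟩ := (Nat.dvd_prime_pow hr).mp (orderOf_dvd_of_pow_eq_one hj)
    rcases Nat.eq_zero_or_pos i with rfl | hi0
    · apply hv.2
      rw [pow_zero, orderOf_eq_one_iff] at hi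
      rw [hi]; exact one_mem _
    · have := hv.1
      rw [hi, Nat.coprime_pow_left_iff hi0, Nat.coprime_self] at this
      exact hr.one_lt.ne' this
  obtain ⟨w, hwy, hw, ⟨l, hl⟩⟩ := h.exists_mem hr hy hv hvr
  have hsr : s.Coprime r := (Nat.coprime_primes hs hr).mpr hrs.symm
  have hyw : (orderOf y).Coprime (orderOf w) :=
    coprime_of_pow hs (coprime_of_pow hr hsr.symm hl).symm hk
  have hle : centralizer ({y} : Set G) ≤ centralizer ({w} : Set G) :=
    h.le_step hy hwy.symm hw.1 hyw
  have hyweq := h.eq_of_le hy hw hle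
  obtain ⟨a, b, ha, hb, hab, ⟨j, hj⟩, hbs⟩ :=
    Cfsg.Agent.OddOrderLocal.CNBasic.exists_mul_parts hs u
  have huy : Commute u y := hcy.mpr hc.symm
  have hay : Commute a y := by
    obtain ⟨i, rfl⟩ := ha
    exact huy.zpow_left i
  have hby : Commute b y := by
    obtain ⟨i, rfl⟩ := hb
    exact huy.zpow_left i
  have haw : Commute a w := by
    have h3 : a ∈ centralizer ({y} : Set G) := mem_centralizer_singleton_iff.mpr hay
    exact mem_centralizer_singleton_iff.mp (hle h3)
  have hap : (orderOf a).Coprime p := by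
    exact Nat.Coprime.coprime_dvd_left (orderOf_dvd_of_mem_zpowers ha) hu
  have hbp : (orderOf b).Coprime p := by
    exact Nat.Coprime.coprime_dvd_left (orderOf_dvd_of_mem_zpowers hb) hu
  have hla : centralizer ({y} : Set G) ≤ centralizer ({a} : Set G) := by
    rw [hyweq]
    apply h.le_step hw haw.symm hap
    exact coprime_of_pow hr (coprime_of_pow hs hsr hj).symm hl
  have hlb : centralizer ({y} : Set G) ≤ centralizer ({b} : Set G) := by
    apply h.le_step hy hby.symm hbp
    exact coprime_of_pow hs hbs.symm hk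
  rw [hxy]
  intro g hg
  have h1 := mem_centralizer_singleton_iff.mp (hla hg)
  have h2 := mem_centralizer_singleton_iff.mp (hlb hg)
  rw [mem_centralizer_singleton_iff, ← hab]
  exact (Commute.mul_right h1 h2 : Commute g (a * b))

end Cfsg.Agent.H503.TwoReg
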