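import Mathlib
import Cfsg.Agent.H503.TwoRegA

/-!
# Groups whose non-central `p`-regular elements have centralizers of the same order, II

Under `typeI` the primes `q ≠ p` dividing the index `m` divide it once, and there is at most one.
-/

set_option autoImplicit false

namespace Cfsg.Agent.H503.TwoReg

open Subgroup CommonFix

variable {G : Type*} [Group G]

/-- The hypothesis "type I". -/
def TI (G : Type*) [Group G] (p : ℕ) : Prop :=
  ∀ x u : G, PR p x → (orderOf u).Coprime p → Commute x u →
    centralizer ({x} : Set G) ≤ centralizer ({u} : Set G)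

/-- The `r`-elements of the centre of `C(x)`. -/
def R (x : G) (r : ℕ) : Subgroup G where
  carrier := {u | u ∈ centralizer ({x} : Set G) ∧
    centralizer ({x} : Set G) ≤ centralizer ({u} : Set G) ∧ ∃ k, u ^ r ^ k = 1}
  one_mem' := ⟨one_mem _, by
    intro g _
    rw [mem_centralizer_singleton_iff, mul_one, one_mul], 0, one_pow _⟩
  mul_mem' := by
    rintro a b ⟨ha1, ha2, i, hi⟩ ⟨hb1, hb2, j, hj⟩
    refine ⟨mul_mem ha1 hb1, fun g hg => ?_, i + j, ?_⟩
    · have h1 := mem_centralizer_singleton_iff.mp (ha2 hg)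
      have h2 := mem_centralizer_singleton_iff.mp (hb2 hg)
      rw [mem_centralizer_singleton_iff]
      exact (Commute.mul_right h1 h2 : Commute g (a * b))
    · have hab : Commute a b := mem_centralizer_singleton_iff.mp (hb2 ha1)
      rw [hab.mul_pow, pow_add]
      nth_rewrite 2 [mul_comm]
      rw [pow_mul, pow_mul, hi, hj, one_pow, one_pow, one_mul]
  inv_mem' := by
    rintro a ⟨ha1, ha2, i, hi⟩
    refine ⟨inv_mem ha1, fun g hg => ?_, i, ?_⟩
    · have h1 := mem_centralizer_singleton_iff.mp (ha2 hg)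
      rw [mem_centralizer_singleton_iff]
      exact (Commute.inv_right h1 : Commute g a⁻¹)
    · rw [inv_pow, hi, inv_one]

theorem R_le (x : G) (r : ℕ) : R x r ≤ centralizer ({x} : Set G) := fun _ h => h.1

theorem R_comm {x : G} {r : ℕ} {a b : G} (ha : a ∈ R x r) (hb : b ∈ centralizer ({x} : Set G)) :
    Commute b a := mem_centralizer_singleton_iff.mp (ha.2.1 hb)

instance R_isMulCommutative (x : G) (r : ℕ) : IsMulCommutative (R x r) :=
  ⟨⟨fun a b => Subtype.ext (R_comm b.2 a.2.1)⟩⟩

theorem R_isPGroup (x : G) (r : ℕ) : IsPGroup r (R x r) := by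
  rintro ⟨a, ha⟩
  obtain ⟨k, hk⟩ := ha.2.2
  exact ⟨k, Subtype.ext hk⟩

theorem normalizer_le (x : G) (r : ℕ) :
    normalizer ((centralizer ({x} : Set G) : Subgroup G) : Set G) ≤ normalizer (R x r : Set G) := by
  have key : ∀ n ∈ normalizer ((centralizer ({x} : Set G) : Subgroup G) : Set G), ∀ a ∈ R x r,
      n * a * n⁻¹ ∈ R x r := by
    rintro n hn a ⟨h1, h2, k, hk⟩
    refine ⟨(mem_normalizer_iff.mp hn a).mp h1, fun g hg => ?_, k, ?_⟩
    · have h3 : n⁻¹ * g * n ∈ centralizer ({x} : Set G) := (mem_normalizer_iff''.mp hn g).mp hg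
      have h4 := mem_centralizer_singleton_iff.mp (h2 h3)
      rw [mem_centralizer_singleton_iff]
      calc g * (n * a * n⁻¹) = n * ((n⁻¹ * g * n) * a) * n⁻¹ := by group
        _ = n * (a * (n⁻¹ * g * n)) * n⁻¹ := by rw [h4]
        _ = n * a * n⁻¹ * g := by group
    · rw [conj_pow, hk, mul_one, mul_inv_cancel]
  intro n hn
  rw [mem_normalizer_iff]
  intro a
  refine ⟨key n hn a, fun h => ?_⟩
  have := key n⁻¹ (inv_mem hn) _ h
  simpa [mul_assoc] using this

variable [Finite G] {p m : ℕ}

theorem HH.card_mul (h : HH G p m) {x : G} (hx : PR p x) :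
    Nat.card (centralizer ({x} : Set G)) * m = Nat.card G := by
  rw [← h x hx]
  exact Subgroup.card_mul_index _

theorem HH.pos (h : HH G p m) {x : G} (hx : PR p x) : 0 < m := by
  rw [← h x hx]
  exact Nat.pos_of_ne_zero Subgroup.index_ne_zero_of_finite

theorem mem_R {x a : G} (hT : TI G p) (hx : PR p x) {r : ℕ} (hr : r.Prime) (hrp : r ≠ p)
    (hp : p.Prime) (ha : a ∈ centralizer ({x} : Set G)) (hk : ∃ k, a ^ r ^ k = 1) : a ∈ R x r := by
  obtain ⟨k, hk⟩ := hk
  refine ⟨ha, ?_, k, hk⟩
  apply hT x a hx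
  · exact coprime_of_pow hr ((Nat.coprime_primes hr hp).mpr hrp) hk
  · exact (mem_centralizer_singleton_iff.mp ha : Commute a x).symm

theorem le_R {x : G} (hT : TI G p) (hx : PR p x) {r : ℕ} (hr : r.Prime) (hrp : r ≠ p)
    (hp : p.Prime) {T : Subgroup G} (hT' : IsPGroup r T) (hTx : T ≤ centralizer ({x} : Set G)) :
    T ≤ R x r := by
  intro a ha
  apply mem_R hT hx hr hrp hp (hTx ha)
  obtain ⟨k, hk⟩ := hT' ⟨a, ha⟩
  exact ⟨k, congrArg Subtype.val hk⟩

theorem card_R {x : G} (hT : TI G p) (hx : PR p x) {r : ℕ} (hr : r.Prime) (hrp : r ≠ p)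
    (hp : p.Prime) :
    Nat.card (R x r) = r ^ (Nat.card (centralizer ({x} : Set G))).factorization r := by
  have := Fact.mk hr
  let S : Sylow r (centralizer ({x} : Set G)) := default
  let S' : Subgroup G := (S : Subgroup (centralizer ({x} : Set G))).map (centralizer ({x} : Set G)).subtype
  have hS'card : Nat.card S' = r ^ (Nat.card (centralizer ({x} : Set G))).factorization r := by
    rw [Subgroup.card_subtype, S.card_eq_multiplicity]
  have h1 : S' ≤ R x r := le_R hT hx hr hrp hp (IsPGroup.of_card hS'card) (Subgroup.map_subtype_le _)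
  obtain ⟨n, hn⟩ := IsPGroup.iff_card.mp (R_isPGroup x r)
  have h2 : r ^ n ∣ Nat.card (centralizer ({x} : Set G)) := by
    rw [← hn]
    exact Subgroup.card_dvd_of_le (R_le x r)
  have h3 := (Nat.Prime.pow_dvd_iff_le_factorization hr Nat.card_pos.ne').mp h2
  apply le_antisymm
  · rw [hn]
    exact Nat.pow_le_pow_right hr.pos h3
  · rw [← hS'card]
    exact Subgroup.card_le_of_le h1

/-- commuting non-central `p`-regular elements -/
theorem TI.eq_of_commute (hT : TI G p) {x u : G} (hx : PR p x) (hu : PR p u) (hc : Commute x u) :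
    centralizer ({x} : Set G) = centralizer ({u} : Set G) :=
  le_antisymm (hT x u hx hu.1 hc) (hT u x hu hx.1 hc.symm)

/-- `C(x)` as a subgroup of its normalizer. -/
abbrev cN (x : G) : Subgroup (normalizer ((centralizer ({x} : Set G) : Subgroup G) : Set G)) :=
  (centralizer ({x} : Set G)).subgroupOf (normalizer ((centralizer ({x} : Set G) : Subgroup G) : Set G))

/-- The action of the normalizer of `C(x)` on the `r`-part. -/
noncomputable def act (x : G) (r : ℕ) :
    normalizer ((centralizer ({x} : Set G) : Subgroup G) : Set G) →* MulAut (R x r) :=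
  (R x r).normalizerMonoidHom.comp (Subgroup.inclusion (normalizer_le x r))

theorem act_apply (x : G) (r : ℕ) (n : normalizer ((centralizer ({x} : Set G) : Subgroup G) : Set G))
    (v : R x r) : ((act x r n v : R x r) : G) = n * v * (n : G)⁻¹ := rfl

theorem cN_le_ker (x : G) (r : ℕ) : cN x ≤ (act x r).ker := by
  intro n hn
  rw [MonoidHom.mem_ker]
  ext v
  rw [act_apply, MulAut.one_apply]
  have : Commute (n : G) (v : G) := R_comm v.2 (mem_subgroupOf.mp hn)
  rw [this.eq, mul_inv_cancel_right]

/-- The action of `N(C(x))/C(x)`. -/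
noncomputable def psi (x : G) (r : ℕ) :
    (normalizer ((centralizer ({x} : Set G) : Subgroup G) : Set G) ⧸ cN x) →* MulAut (R x r) :=
  QuotientGroup.lift (cN x) (act x r) (cN_le_ker x r)

open scoped IsMulCommutative in
theorem cf (hT : TI G p) {x : G} (hx : PR p x) {r : ℕ} {v : G} (hv : PR p v) (hvR : v ∈ R x r)
    (hr : r.Prime) (hrp : r ≠ p) (hp : p.Prime) :
    CF (psi x r) ((center G).subgroupOf (R x r)) := by
  constructor
  · intro w hw u
    obtain ⟨n, rfl⟩ := QuotientGroup.mk_surjective w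
    have hn : (n : G) ∉ centralizer ({x} : Set G) := by
      intro h
      apply hw
      rw [QuotientGroup.eq_one_iff]
      exact h
    have h1 : psi x r (n : _ ⧸ cN x) u = act x r n u := rfl
    rw [h1, Subtype.ext_iff, act_apply, mem_subgroupOf, mul_inv_eq_iff_eq_mul]
    constructor
    · intro h2
      by_contra hu
      apply hn
      have hu' : PR p (u : G) := by
        refine ⟨?_, hu⟩
        obtain ⟨k, hk⟩ := u.2.2.2
        exact coprime_of_pow hr ((Nat.coprime_primes hr hp).mpr hrp) hk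
      have hc : Commute x (u : G) := (mem_centralizer_singleton_iff.mp u.2.1 : Commute (u : G) x).symm
      have h3 : (n : G) ∈ centralizer ({(u : G)} : Set G) := mem_centralizer_singleton_iff.mpr h2
      exact (hT.eq_of_commute hx hu' hc).ge h3
    · intro h2
      exact mem_center_iff.mp h2 n
  · intro h
    apply hv.2
    have : (⟨v, hvR⟩ : R x r) ∈ (center G).subgroupOf (R x r) := by rw [h]; exact mem_top _
    exact this

/-- The normalizer of `R x r` is the normalizer of `C(x)`. -/
theorem normalizer_R_le (hT : TI G p) {x v : G} {r : ℕ} (hx : PR p x) (hv : PR p v) (hvR : v ∈ R x r) :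
    normalizer (R x r : Set G) ≤ normalizer ((centralizer ({x} : Set G) : Subgroup G) : Set G) := by
  have hC : centralizer ({x} : Set G) = centralizer (R x r : Set G) := by
    apply le_antisymm
    · intro g hg
      rw [mem_centralizer_iff]
      intro a ha
      exact ((R_comm ha hg).eq).symm
    · have hc : Commute x v := (mem_centralizer_singleton_iff.mp hvR.1 : Commute v x).symm
      rw [hT.eq_of_commute hx hv hc]
      apply centralizer_le
      simpa using hvR
  rw [hC]
  have key : ∀ n ∈ normalizer (R x r : Set G), ∀ g ∈ centralizer (R x r : Set G),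
      n * g * n⁻¹ ∈ centralizer (R x r : Set G) := by
    intro n hn g hg
    rw [mem_centralizer_iff] at hg ⊢
    intro a ha
    have h1 := hg _ ((mem_normalizer_iff''.mp hn a).mp ha)
    calc a * (n * g * n⁻¹) = n * ((n⁻¹ * a * n) * g) * n⁻¹ := by group
      _ = n * (g * (n⁻¹ * a * n)) * n⁻¹ := by rw [h1]
      _ = n * g * n⁻¹ * a := by group
  intro n hn
  rw [mem_normalizer_iff]
  intro a
  refine ⟨key n hn a, fun h => ?_⟩
  have := key n⁻¹ (inv_mem hn) _ h
  simpa [mul_assoc] using this

/-- A Sylow `q`-subgroup contains an element `z`, central modulo the centre of `G`. -/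
theorem exists_z (h : HH G p m) {x : G} (hx : PR p x) {q : ℕ} (hq : q.Prime) (hqm : q ∣ m)
    (Q : Sylow q G) : ∃ z ∈ (Q : Subgroup G), z ∉ center G ∧ z ^ q ∈ center G ∧
      ∀ g ∈ (Q : Subgroup G), g * z * g⁻¹ * z⁻¹ ∈ center G := by
  have := Fact.mk hq
  have hQ : ¬ (Q : Subgroup G) ≤ center G := by
    intro hle
    have h1 : (Q : Subgroup G) ≤ centralizer ({x} : Set G) := hle.trans (center_le_centralizer _)
    have h2 : (centralizer ({x} : Set G)).index ∣ (Q : Subgroup G).index := index_dvd_of_le h1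
    rw [h x hx] at h2
    exact Q.not_dvd_index (hqm.trans h2)
  let K : Subgroup (Q : Subgroup G) := (center G).subgroupOf Q
  have hKn : K.Normal := inferInstance
  have hnt : Nontrivial ((Q : Subgroup G) ⧸ K) := by
    rw [QuotientGroup.nontrivial_iff]
    intro hK
    apply hQ
    exact subgroupOf_eq_top.mp hK
  have hQp : IsPGroup q ((Q : Subgroup G) ⧸ K) := Q.isPGroup'.to_quotient K
  have hZnt : Nontrivial (center ((Q : Subgroup G) ⧸ K)) := hQp.center_nontrivial
  have hZp : IsPGroup q (center ((Q : Subgroup G) ⧸ K)) := hQp.to_subgroup _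
  have hdvd : q ∣ Nat.card (center ((Q : Subgroup G) ⧸ K)) := by
    rcases hZp.card_eq_or_dvd with h1 | h1
    · exact absurd h1 (Finite.one_lt_card_iff_nontrivial.mpr hZnt).ne'
    · exact h1
  obtain ⟨w, hw⟩ := exists_prime_orderOf_dvd_card' q hdvd
  obtain ⟨z, hz⟩ := QuotientGroup.mk_surjective (w : (Q : Subgroup G) ⧸ K)
  refine ⟨z, z.2, ?_, ?_, ?_⟩
  · intro hzc
    have : (z : (Q : Subgroup G) ⧸ K) = 1 := (QuotientGroup.eq_one_iff z).mpr hzc
    rw [hz] at this
    have h1 : w = 1 := Subtype.ext this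
    rw [h1, orderOf_one] at hw
    exact hq.one_lt.ne hw
  · have h1 : ((z ^ q : (Q : Subgroup G)) : (Q : Subgroup G) ⧸ K) = 1 := by
      have h2 : w ^ q = 1 := by
        have := pow_orderOf_eq_one w
        rwa [hw] at this
      rw [QuotientGroup.mk_pow, hz, ← Subgroup.coe_pow, h2]
      rfl
    exact (QuotientGroup.eq_one_iff (N := K) (z ^ q)).mp h1
  · intro g hg
    have h1 : ((⟨g, hg⟩ * z * (⟨g, hg⟩ : (Q : Subgroup G))⁻¹ * z⁻¹ : (Q : Subgroup G)) :
        (Q : Subgroup G) ⧸ K) = 1 := by
      rw [QuotientGroup.mk_mul, QuotientGroup.mk_mul, QuotientGroup.mk_mul, QuotientGroup.mk_inv,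
        QuotientGroup.mk_inv, hz]
      have h2 := mem_center_iff.mp w.2 ((⟨g, hg⟩ : (Q : Subgroup G)) : (Q : Subgroup G) ⧸ K)
      rw [h2, mul_inv_cancel_right, mul_inv_cancel]
    exact (QuotientGroup.eq_one_iff (N := K) (⟨g, hg⟩ * z * (⟨g, hg⟩ : (Q : Subgroup G))⁻¹ * z⁻¹)).mp h1

end Cfsg.Agent.H503.TwoReg
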