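import Mathlib
import Cfsg.Agent.H503.TwoRegB
import Cfsg.Agent.PLocal.CyclicIndexP

/-!
# Groups whose non-central `p`-regular elements have centralizers of the same order, III
-/

set_option autoImplicit false

namespace Cfsg.Agent.H503.TwoReg

open Subgroup CommonFix

variable {G : Type*} [Group G] [Finite G] {p m : ℕ}

/-- A Sylow `q`-subgroup normalizing `C(x)` contains `R x q`. -/
theorem R_le_sylow {x : G} {q : ℕ} [hq : Fact q.Prime] (Q : Sylow q G)
    (hQ : (Q : Subgroup G) ≤ normalizer ((centralizer ({x} : Set G) : Subgroup G) : Set G)) :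
    R x q ≤ (Q : Subgroup G) := by
  have h1 : IsPGroup q (R x q ⊔ (Q : Subgroup G) : Subgroup G) :=
    IsPGroup.to_sup_of_normal_left' (R_isPGroup x q) Q.isPGroup' (hQ.trans (normalizer_le x q))
  have h2 := Q.is_maximal' h1 le_sup_right
  rw [← h2]
  exact le_sup_left

/-- The image of a subgroup `Q` of `N(C(x))` in `N(C(x))/C(x)`. -/
noncomputable def toW (x : G) (Q : Subgroup G)
    (hQ : Q ≤ normalizer ((centralizer ({x} : Set G) : Subgroup G) : Set G)) :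
    Q →* (normalizer ((centralizer ({x} : Set G) : Subgroup G) : Set G) ⧸ cN x) :=
  (QuotientGroup.mk' (cN x)).comp (Subgroup.inclusion hQ)

omit [Finite G] in
theorem toW_eq_one {x : G} {Q : Subgroup G}
    (hQ : Q ≤ normalizer ((centralizer ({x} : Set G) : Subgroup G) : Set G)) (g : Q) :
    toW x Q hQ g = 1 ↔ (g : G) ∈ centralizer ({x} : Set G) := by
  show ((Subgroup.inclusion hQ g : normalizer ((centralizer ({x} : Set G) : Subgroup G) : Set G)) :
    _ ⧸ cN x) = 1 ↔ _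
  rw [QuotientGroup.eq_one_iff]
  rfl

omit [Finite G] in
theorem toW_ker {x : G} {Q : Subgroup G}
    (hQ : Q ≤ normalizer ((centralizer ({x} : Set G) : Subgroup G) : Set G)) :
    (toW x Q hQ).ker = (centralizer ({x} : Set G)).subgroupOf Q := by
  ext g
  rw [MonoidHom.mem_ker, toW_eq_one, mem_subgroupOf]

open scoped IsMulCommutative in
/-- The element `z` of `exists_z`: `C(z)` is normalized by `Q` and `Q ∩ C(z)` has index `q`. -/
theorem index_z (h : HH G p m) (hT : TI G p) (hp : p.Prime) {q r : ℕ} (hq : q.Prime) (hr : r.Prime)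
    (hqp : q ≠ p) (hrp : r ≠ p) (hqr : q ≠ r) (hqm : q ∣ m)
    {v : G} (hv : PR p v) (hvr : ∃ k, v ^ r ^ k = 1)
    (Q : Sylow q G) {z : G} (hzQ : z ∈ (Q : Subgroup G)) (hz : z ∉ center G) (hzq : z ^ q ∈ center G)
    (hzc : ∀ g ∈ (Q : Subgroup G), g * z * g⁻¹ * z⁻¹ ∈ center G) :
    PR p z ∧ (Q : Subgroup G) ≤ normalizer ((centralizer ({z} : Set G) : Subgroup G) : Set G) ∧
      (centralizer ({z} : Set G)).relIndex Q = q := by
  have := Fact.mk hq
  have := Fact.mk hr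
  have hzP : PR p z := by
    refine ⟨?_, hz⟩
    obtain ⟨k, hk⟩ := Q.isPGroup' ⟨z, hzQ⟩
    exact coprime_of_pow hq ((Nat.coprime_primes hq hp).mpr hqp) (congrArg Subtype.val hk)
  have hN : (Q : Subgroup G) ≤ normalizer ((centralizer ({z} : Set G) : Subgroup G) : Set G) := by
    have key : ∀ g ∈ (Q : Subgroup G), ∀ a ∈ centralizer ({z} : Set G),
        g * a * g⁻¹ ∈ centralizer ({z} : Set G) := by
      intro g hg a ha
      rw [mem_centralizer_singleton_iff] at ha ⊢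
      have h1 : g⁻¹ * z * g * z⁻¹ ∈ center G := by
        have := hzc g⁻¹ (inv_mem hg)
        rwa [inv_inv] at this
      set c := g⁻¹ * z * g * z⁻¹ with hc
      have h2 : g⁻¹ * z * g = c * z := by rw [hc]; group
      have h3 := mem_center_iff.mp h1 a
      calc g * a * g⁻¹ * z = g * (a * (g⁻¹ * z * g)) * g⁻¹ := by group
        _ = g * (a * (c * z)) * g⁻¹ := by rw [h2]
        _ = g * ((a * c) * z) * g⁻¹ := by group
        _ = g * ((c * a) * z) * g⁻¹ := by rw [h3]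
        _ = g * (c * (a * z)) * g⁻¹ := by group
        _ = g * (c * (z * a)) * g⁻¹ := by rw [ha]
        _ = g * ((c * z) * a) * g⁻¹ := by group
        _ = g * ((g⁻¹ * z * g) * a) * g⁻¹ := by rw [h2]
        _ = z * (g * a * g⁻¹) := by group
    intro g hg
    rw [mem_normalizer_iff]
    intro a
    refine ⟨key g hg a, fun h => ?_⟩
    have := key g⁻¹ (inv_mem hg) _ h
    simpa [mul_assoc] using this
  refine ⟨hzP, hN, ?_⟩
  obtain ⟨w, hwz, hw, hwr⟩ := h.exists_mem hr hzP hv hvr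
  have hwR : w ∈ R z r := mem_R hT hzP hr hrp hp (mem_centralizer_singleton_iff.mpr hwz) hwr
  have hcf := cf hT hzP hw hwR hr hrp hp
  -- the commutators with `z` are multiplicative
  have hcm : ∀ g ∈ (Q : Subgroup G), ∀ k ∈ (Q : Subgroup G),
      g * k * g⁻¹ * k⁻¹ ∈ centralizer ({z} : Set G) := by
    intro g hg k hk
    obtain ⟨c, hc⟩ : ∃ c, c = g * z * g⁻¹ * z⁻¹ := ⟨_, rfl⟩
    obtain ⟨d, hd⟩ : ∃ d, d = k * z * k⁻¹ * z⁻¹ := ⟨_, rfl⟩
    have hcC : ∀ y, y * c = c * y := mem_center_iff.mp (hc ▸ hzc g hg)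
    have hdC : ∀ y, y * d = d * y := mem_center_iff.mp (hd ▸ hzc k hk)
    have h1 : g * z = c * z * g := by rw [hc]; group
    have h2 : k * z = d * z * k := by rw [hd]; group
    have h3 : g⁻¹ * z = c⁻¹ * z * g⁻¹ := by
      have : z * g⁻¹ = g⁻¹ * (c * z) := by
        rw [eq_inv_mul_iff_mul_eq, ← mul_assoc, h1]; group
      rw [← mul_assoc, hcC g⁻¹, mul_assoc] at this
      rw [mul_assoc c⁻¹, this]; group
    have h4 : k⁻¹ * z = d⁻¹ * z * k⁻¹ := by
      have : z * k⁻¹ = k⁻¹ * (d * z) := by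
        rw [eq_inv_mul_iff_mul_eq, ← mul_assoc, h2]; group
      rw [← mul_assoc, hdC k⁻¹, mul_assoc] at this
      rw [mul_assoc d⁻¹, this]; group
    have hcC' : ∀ y, y * c⁻¹ = c⁻¹ * y := fun y => (Commute.inv_right (hcC y : Commute y c))
    have hdC' : ∀ y, y * d⁻¹ = d⁻¹ * y := fun y => (Commute.inv_right (hdC y : Commute y d))
    rw [mem_centralizer_singleton_iff]
    calc g * k * g⁻¹ * k⁻¹ * z = g * k * g⁻¹ * (k⁻¹ * z) := by group
      _ = g * k * g⁻¹ * d⁻¹ * z * k⁻¹ := by rw [h4]; group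
      _ = d⁻¹ * (g * k * (g⁻¹ * z)) * k⁻¹ := by rw [hdC']; group
      _ = d⁻¹ * (g * k * c⁻¹ * z * g⁻¹) * k⁻¹ := by rw [h3]; group
      _ = d⁻¹ * c⁻¹ * (g * (k * z)) * g⁻¹ * k⁻¹ := by rw [hcC']; group
      _ = d⁻¹ * c⁻¹ * (g * d) * z * k * g⁻¹ * k⁻¹ := by rw [h2]; group
      _ = d⁻¹ * c⁻¹ * d * (g * z) * k * g⁻¹ * k⁻¹ := by rw [hdC g]; group
      _ = d⁻¹ * (c⁻¹ * d) * c * z * g * k * g⁻¹ * k⁻¹ := by rw [h1]; group
      _ = d⁻¹ * (d * c⁻¹) * c * z * g * k * g⁻¹ * k⁻¹ := by rw [← hdC c⁻¹]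
      _ = z * (g * k * g⁻¹ * k⁻¹) := by group
  have hcp : ∀ g ∈ (Q : Subgroup G), g ^ q ∈ centralizer ({z} : Set G) := by
    intro g hg
    obtain ⟨c, hc⟩ : ∃ c, c = g * z * g⁻¹ * z⁻¹ := ⟨_, rfl⟩
    have hcC : ∀ y, y * c = c * y := mem_center_iff.mp (hc ▸ hzc g hg)
    have h1 : g * z = c * z * g := by rw [hc]; group
    have hcq : c ^ q = 1 := by
      have h2 : g * z * g⁻¹ = c * z := by rw [h1]; group
      have h3 : (g * z * g⁻¹) ^ q = c ^ q * z ^ q := by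
        rw [h2]
        exact (show Commute c z from (hcC z).symm).mul_pow q
      rw [conj_pow, mem_center_iff.mp hzq g, mul_inv_cancel_right] at h3
      exact (mul_eq_right.mp h3.symm)
    have h4 : z⁻¹ * g * z = c * g := by
      rw [mul_assoc, h1, mul_assoc, ← mul_assoc, ← mul_assoc, hcC z⁻¹, mul_assoc c, inv_mul_cancel, mul_one]
    have h5 : (z⁻¹ * g * z) ^ q = z⁻¹ * g ^ q * z := by
      have := conj_pow (i := q) (a := z⁻¹) (b := g)
      rwa [inv_inv] at this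
    have h6 : (c * g) ^ q = g ^ q := by
      rw [(show Commute c g from (hcC g).symm).mul_pow, hcq, one_mul]
    rw [mem_centralizer_singleton_iff]
    rw [h4, h6] at h5
    calc g ^ q * z = z * (z⁻¹ * g ^ q * z) := by group
      _ = z * g ^ q := by rw [← h5]
  -- the image of `Q` in `W`
  let f := toW z (Q : Subgroup G) hN
  have hA : IsMulCommutative f.range := by
    refine ⟨⟨?_⟩⟩
    rintro ⟨_, g, rfl⟩ ⟨_, k, rfl⟩
    apply Subtype.ext
    show f g * f k = f k * f g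
    rw [← mul_inv_eq_one, mul_inv_rev, ← mul_assoc, ← map_inv, ← map_inv, ← map_mul, ← map_mul,
      ← map_mul]
    rw [toW_eq_one]
    exact hcm g g.2 k k.2
  have hAp : IsPGroup q f.range := Q.isPGroup'.of_surjective f.rangeRestrict f.rangeRestrict_surjective
  have hcop : (Nat.card f.range).Coprime (Nat.card (R z r)) := by
    obtain ⟨n, hn⟩ := IsPGroup.iff_card.mp hAp
    obtain ⟨k, hk⟩ := IsPGroup.iff_card.mp (R_isPGroup z r)
    rw [hn, hk]
    exact Nat.Coprime.pow _ _ ((Nat.coprime_primes hq hr).mpr hqr)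
  have hcyc : IsCyclic f.range := hcf.isCyclic_of_comm f.range hA hcop
  have hexp : Monoid.exponent f.range ∣ q := by
    rw [Monoid.exponent_dvd_iff_forall_pow_eq_one]
    rintro ⟨_, g, rfl⟩
    apply Subtype.ext
    show (f g) ^ q = 1
    rw [← map_pow, toW_eq_one]
    exact hcp g g.2
  rw [hcyc.exponent_eq_card, (Nat.dvd_prime hq)] at hexp
  have hidx : (centralizer ({z} : Set G)).relIndex Q = Nat.card f.range := by
    rw [← index_ker f, toW_ker]
    rfl
  rw [hidx]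
  rcases hexp with h1 | h1
  · exfalso
    -- then `Q ≤ C(z)`
    rw [← hidx, relIndex_eq_one] at h1
    have h2 : (centralizer ({z} : Set G)).index ∣ (Q : Subgroup G).index := index_dvd_of_le h1
    rw [h z hzP] at h2
    exact Q.not_dvd_index (hqm.trans h2)
  · exact h1

/-- `q` divides `m` only once, and the order of `R x q`. -/
theorem card_R_mul (h : HH G p m) (hT : TI G p) (hp : p.Prime) {q r : ℕ} (hq : q.Prime) (hr : r.Prime)
    (hqp : q ≠ p) (hrp : r ≠ p) (hqr : q ≠ r) (hqm : q ∣ m)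
    {v : G} (hv : PR p v) (hvr : ∃ k, v ^ r ^ k = 1) {x : G} (hx : PR p x) (Q : Sylow q G) :
    Nat.card (R x q) * q = Nat.card Q := by
  have := Fact.mk hq
  obtain ⟨z, hzQ, hz, hzq, hzc⟩ := exists_z h hx hq hqm Q
  obtain ⟨hzP, hN, hidx⟩ := index_z h hT hp hq hr hqp hrp hqr hqm hv hvr Q hzQ hz hzq hzc
  have h1 : Nat.card (R x q) = Nat.card (R z q) := by
    rw [card_R hT hx hq hqp hp, card_R hT hzP hq hqp hp]
    have h2 := h.card_mul hx
    rw [← h.card_mul hzP] at h2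
    rw [Nat.eq_of_mul_eq_mul_right (h.pos hx) h2]
  have h3 : R z q = centralizer ({z} : Set G) ⊓ (Q : Subgroup G) := by
    apply le_antisymm
    · exact le_inf (R_le z q) (R_le_sylow Q hN)
    · apply le_R hT hzP hq hqp hp _ inf_le_left
      exact Q.isPGroup'.to_le inf_le_right
  rw [h1, h3]
  rw [← inf_relIndex_right, relIndex] at hidx
  have h4 := ((centralizer ({z} : Set G) ⊓ (Q : Subgroup G)).subgroupOf Q).card_mul_index
  rw [hidx] at h4
  rwa [Nat.card_congr (subgroupOfEquivOfLe inf_le_right).toEquiv] at h4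

/-- `q ∣ m` but not `q ^ 2 ∣ m`. -/
theorem not_sq_dvd (h : HH G p m) (hT : TI G p) (hp : p.Prime) {q r : ℕ} (hq : q.Prime) (hr : r.Prime)
    (hqp : q ≠ p) (hrp : r ≠ p) (hqr : q ≠ r) (hqm : q ∣ m)
    {v : G} (hv : PR p v) (hvr : ∃ k, v ^ r ^ k = 1) {x : G} (hx : PR p x) :
    m.factorization q = 1 := by
  have := Fact.mk hq
  let Q : Sylow q G := default
  have h1 := card_R_mul h hT hp hq hr hqp hrp hqr hqm hv hvr hx Q
  rw [card_R hT hx hq hqp hp, Q.card_eq_multiplicity, ← h.card_mul hx,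
    Nat.factorization_mul Nat.card_pos.ne' (h.pos hx).ne', ← pow_succ, Finsupp.add_apply] at h1
  have h2 := Nat.pow_right_injective hq.two_le h1
  omega

/-- Every `C(x)` is normalized by a Sylow `q`-subgroup, not contained in `C(x)`. -/
theorem exists_sylow_normalizing (h : HH G p m) (hT : TI G p) (hp : p.Prime) {q r : ℕ} (hq : q.Prime)
    (hr : r.Prime) (hqp : q ≠ p) (hrp : r ≠ p) (hqr : q ≠ r) (hqm : q ∣ m)
    {v u : G} (hv : PR p v) (hvr : ∃ k, v ^ r ^ k = 1) (hu : PR p u) (huq : ∃ k, u ^ q ^ k = 1)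
    {x : G} (hx : PR p x) :
    ∃ Q : Sylow q G, (Q : Subgroup G) ≤ normalizer ((centralizer ({x} : Set G) : Subgroup G) : Set G) ∧
      ∃ t ∈ (Q : Subgroup G), t ∉ centralizer ({x} : Set G) := by
  have := Fact.mk hq
  obtain ⟨Q, hQ⟩ := (R_isPGroup x q).exists_le_sylow
  have h1 := card_R_mul h hT hp hq hr hqp hrp hqr hqm hv hvr hx Q
  have h2 : ((R x q).subgroupOf (Q : Subgroup G)).index = q := by
    have h3 := ((R x q).subgroupOf (Q : Subgroup G)).card_mul_index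
    rw [Nat.card_congr (subgroupOfEquivOfLe hQ).toEquiv, ← h1] at h3
    exact Nat.eq_of_mul_eq_mul_left Nat.card_pos h3
  have h4 : ((R x q).subgroupOf (Q : Subgroup G)).Normal :=
    Cfsg.Agent.PLocal.CyclicIndexP.normal_of_index Q.isPGroup' h2
  obtain ⟨w, hwx, hw, hwq⟩ := h.exists_mem hq hx hu huq
  have hwR : w ∈ R x q := mem_R hT hx hq hqp hp (mem_centralizer_singleton_iff.mpr hwx) hwq
  refine ⟨Q, ?_, ?_⟩
  · exact ((normal_subgroupOf_iff_le_normalizer hQ).mp h4).trans (normalizer_R_le hT hx hw hwR)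
  · by_contra hcon
    push Not at hcon
    have h5 : (Q : Subgroup G) ≤ R x q := le_R hT hx hq hqp hp Q.isPGroup' hcon
    rw [subgroupOf_eq_top.mpr h5, index_top] at h2
    exact hq.one_lt.ne h2

open scoped IsMulCommutative in
/-- **At most one prime different from `p` divides `m`.** -/
theorem unique_prime (h : HH G p m) (hT : TI G p) (hp : p.Prime) {q₁ q₂ : ℕ} (hq₁ : q₁.Prime)
    (hq₂ : q₂.Prime) (h₁p : q₁ ≠ p) (h₂p : q₂ ≠ p) (hne : q₁ ≠ q₂) (h₁m : q₁ ∣ m) (h₂m : q₂ ∣ m)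
    {v₁ v₂ : G} (hv₁ : PR p v₁) (hv₂ : PR p v₂) (h₁ : ∃ k, v₁ ^ q₁ ^ k = 1)
    (h₂ : ∃ k, v₂ ^ q₂ ^ k = 1) : False := by
  have := Fact.mk hq₁
  have := Fact.mk hq₂
  -- the element `x := v₁`
  obtain ⟨Q₁, hQ₁, t₁, ht₁, ht₁'⟩ :=
    exists_sylow_normalizing h hT hp hq₁ hq₂ h₁p h₂p hne h₁m hv₂ h₂ hv₁ h₁ hv₁
  obtain ⟨Q₂, hQ₂, t₂, ht₂, ht₂'⟩ :=
    exists_sylow_normalizing h hT hp hq₂ hq₁ h₂p h₁p hne.symm h₂m hv₁ h₁ hv₂ h₂ hv₁
  have key : ∀ (q : ℕ) [Fact q.Prime] (Q : Sylow q G)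
      (hQ : (Q : Subgroup G) ≤ normalizer ((centralizer ({v₁} : Set G) : Subgroup G) : Set G))
      (t : G), t ∈ (Q : Subgroup G) → t ∉ centralizer ({v₁} : Set G) →
      q ∣ Nat.card (normalizer ((centralizer ({v₁} : Set G) : Subgroup G) : Set G) ⧸ cN v₁) := by
    intro q hq Q hQ t ht ht'
    let f := toW v₁ (Q : Subgroup G) hQ
    have hp' : IsPGroup q f.range :=
      Q.isPGroup'.of_surjective f.rangeRestrict f.rangeRestrict_surjective
    rcases hp'.card_eq_or_dvd with h1 | h1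
    · exfalso
      apply ht'
      rw [Subgroup.card_eq_one] at h1
      have h2 : f ⟨t, ht⟩ ∈ f.range := ⟨_, rfl⟩
      rw [h1, mem_bot] at h2
      exact (toW_eq_one hQ ⟨t, ht⟩).mp h2
    · exact h1.trans (Subgroup.card_subgroup_dvd_card _)
  obtain ⟨w₂, hw₂x, hw₂, hw₂q⟩ := h.exists_mem hq₂ hv₁ hv₂ h₂
  have hv₁R : v₁ ∈ R v₁ q₁ := mem_R hT hv₁ hq₁ h₁p hp (mem_centralizer_singleton_iff.mpr rfl) h₁
  have hw₂R : w₂ ∈ R v₁ q₂ := mem_R hT hv₁ hq₂ h₂p hp (mem_centralizer_singleton_iff.mpr hw₂x) hw₂q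
  exact false_of_two hne (key q₁ Q₁ hQ₁ t₁ ht₁ ht₁') (key q₂ Q₂ hQ₂ t₂ ht₂ ht₂')
    (R_isPGroup v₁ q₁) (R_isPGroup v₁ q₂) (cf hT hv₁ hv₁ hv₁R hq₁ h₁p hp)
    (cf hT hv₁ hw₂ hw₂R hq₂ h₂p hp)

end Cfsg.Agent.H503.TwoReg
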