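import Mathlib
import Cfsg.Agent.H503.TwoRegC
import Cfsg.Agent.Lib.Cores
import Cfsg.Agent.S4037
import Cfsg.Agent.S0024

/-!
# Groups whose non-central `p`-regular elements have centralizers of the same order, IV

No prime `q ≠ p` divides `m` in the type I case (`false_of_typeI`).
-/

set_option autoImplicit false

namespace Cfsg.Agent.H503.TwoReg

open Subgroup CommonFix Cfsg
open scoped Pointwise

variable {G : Type*} [Group G] [Finite G] {p m : ℕ}

theorem sylow_sup_eq_top {H : Type*} [Group H] [Finite H] {s : ℕ} [hs : Fact s.Prime] (T : Sylow s H)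
    (K : Subgroup H) {n : ℕ} (hn : K.index = s ^ n) : (T : Subgroup H) ⊔ K = ⊤ := by
  rw [← index_eq_one]
  have h1 : ((T : Subgroup H) ⊔ K).index ∣ s ^ n := by
    rw [← hn]; exact index_dvd_of_le le_sup_right
  have h2 : ((T : Subgroup H) ⊔ K).index ∣ (T : Subgroup H).index := index_dvd_of_le le_sup_left
  obtain ⟨i, -, hi⟩ := (Nat.dvd_prime_pow hs.out).mp h1
  rcases Nat.eq_zero_or_pos i with rfl | hi0
  · simpa using hi
  · exfalso
    apply T.not_dvd_index
    exact (hi ▸ dvd_pow_self s hi0.ne').trans h2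

/-- A normal subgroup which is a `p`-group modulo the centre. -/
theorem le_center_sup_pCore (hp : p.Prime) (X : Subgroup G) [hX : X.Normal]
    (hXp : IsPGroup p (X.map (QuotientGroup.mk' (center G)))) : X ≤ center G ⊔ pCore p G := by
  have := Fact.mk hp
  let T : Sylow p X := default
  let K : Subgroup X := (center G).subgroupOf X
  have hKi : ∃ n, K.index = p ^ n := by
    obtain ⟨n, hn⟩ := IsPGroup.iff_card.mp hXp
    refine ⟨n, ?_⟩
    rw [← hn, ← relIndex_ker, QuotientGroup.ker_mk']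
    rfl
  have htop : (T : Subgroup X) ⊔ K = ⊤ := by
    obtain ⟨n, hn⟩ := hKi
    exact sylow_sup_eq_top T K hn
  have hTn : (T : Subgroup X).Normal := by
    rw [← normalizer_eq_top_iff, eq_top_iff, ← htop]
    refine sup_le le_normalizer ?_
    intro k hk
    rw [mem_normalizer_iff]
    intro a
    have h3 : k * a * k⁻¹ = a := by
      apply Subtype.ext
      have h4 : (a : G) * k = k * a := mem_center_iff.mp (mem_subgroupOf.mp hk) a
      show (k : G) * a * (k : G)⁻¹ = a
      rw [← h4, mul_inv_cancel_right]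
    rw [h3]
  have hTc : (T : Subgroup X).Characteristic := T.characteristic_of_normal hTn
  have hT' : ((T : Subgroup X).map X.subtype) ≤ pCore p G :=
    Cfsg.Agent.Lib.Cores.le_pCore inferInstance (T.isPGroup'.map _)
  intro x hx
  have h5 : (⟨x, hx⟩ : X) ∈ (T : Subgroup X) ⊔ K := by rw [htop]; exact mem_top _
  have h6 : x ∈ ((T : Subgroup X) ⊔ K).map X.subtype := ⟨_, h5, rfl⟩
  rw [Subgroup.map_sup] at h6
  refine (sup_le ?_ ?_ : ((T : Subgroup X).map X.subtype) ⊔ (K.map X.subtype) ≤ _) h6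
  · exact hT'.trans le_sup_right
  · refine le_trans ?_ le_sup_left
    rintro _ ⟨k, hk, rfl⟩
    exact hk

/-- The class of `z` modulo the centre has `p`-power size. -/
theorem index_bar (h : HH G p m) {z : G} (hz : PR p z) {q : ℕ} [hq : Fact q.Prime] (hqm : m.factorization q = 1)
    (hms : ∀ s : ℕ, s.Prime → s ∣ m → s = p ∨ s = q)
    (Q : Sylow q G) (hzc : ∀ g ∈ (Q : Subgroup G), g * z * g⁻¹ * z⁻¹ ∈ center G) :
    ∃ k, (centralizer ({(z : G ⧸ center G)} : Set (G ⧸ center G))).index = p ^ k := by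
  set C := (centralizer ({(z : G ⧸ center G)} : Set (G ⧸ center G))) with hC
  have h1 : (C.comap (QuotientGroup.mk' (center G))).index = C.index :=
    index_comap_of_surjective _ (QuotientGroup.mk'_surjective _)
  have h2 : C.index ∣ m := by
    rw [← h1, ← h z hz]
    apply index_dvd_of_le
    intro g hg
    rw [mem_comap, hC, mem_centralizer_singleton_iff]
    have h3 := mem_centralizer_singleton_iff.mp hg
    show ((g : G) : G ⧸ center G) * z = z * (g : G ⧸ center G)
    rw [← QuotientGroup.mk_mul, ← QuotientGroup.mk_mul, h3]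
  have h4 : C.index ∣ (Q : Subgroup G).index := by
    rw [← h1]
    apply index_dvd_of_le
    intro g hg
    rw [mem_comap, hC, mem_centralizer_singleton_iff]
    show ((g : G) : G ⧸ center G) * z = z * (g : G ⧸ center G)
    rw [← QuotientGroup.mk_mul, ← QuotientGroup.mk_mul, eq_comm, QuotientGroup.eq]
    have h5 := hzc g hg
    have h6 : (z * g)⁻¹ * (g * z) = (z * g)⁻¹ * (g * z * g⁻¹ * z⁻¹) * (z * g) := by group
    rw [h6, mem_center_iff.mp h5 (z * g)⁻¹, inv_mul_cancel_right]
    exact h5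
  refine ⟨_, Nat.eq_prime_pow_of_unique_prime_dvd Subgroup.index_ne_zero_of_finite ?_⟩
  intro d hd hdC
  rcases hms d hd (hdC.trans h2) with h7 | rfl
  · exact h7
  · exact absurd (hdC.trans h4) Q.not_dvd_index

/-- For `s ∤ m` the group `R x s` is a Sylow `s`-subgroup. -/
theorem exists_sylow_eq_R (h : HH G p m) (hT : TI G p) (hp : p.Prime) {s : ℕ} [hs : Fact s.Prime]
    (hsp : s ≠ p) (hsm : ¬ s ∣ m) {x : G} (hx : PR p x) : ∃ Y : Sylow s G, (Y : Subgroup G) = R x s := by
  have h1 : Nat.card (R x s) = s ^ (Nat.card G).factorization s := by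
    rw [card_R hT hx hs.out hsp hp, ← h.card_mul hx,
      Nat.factorization_mul Nat.card_pos.ne' (h.pos hx).ne', Finsupp.add_apply,
      Nat.factorization_eq_zero_of_not_dvd hsm, add_zero]
  exact ⟨Sylow.ofCard _ h1, Sylow.coe_ofCard _ h1⟩

omit [Finite G] in
theorem PR.conj {x : G} (hx : PR p x) (g : G) : PR p (g * x * g⁻¹) := by
  refine ⟨?_, fun hc => hx.2 ?_⟩
  · have : orderOf (g * x * g⁻¹) = orderOf x := by
      have := MulEquiv.orderOf_eq (MulAut.conj g) x
      simpa using this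
    rw [this]
    exact hx.1
  · have := mem_center_iff.mp hc g
    have h2 : x = g * x * g⁻¹ := by
      have h3 : g * (g * x * g⁻¹) = g * x := by rw [this]; group
      exact (mul_left_cancel h3).symm
    rw [h2]
    exact hc

/-- Elements normalizing a group of `s`-elements in `C(v)` containing a non-central element. -/
theorem normalizer_le_of_mem (hT : TI G p) (hp : p.Prime) {s : ℕ} (hs : s.Prime) (hsp : s ≠ p)
    {S : Subgroup G} (hS : IsPGroup s S) {v w : G} (hv : PR p v)
    (hSv : S ≤ centralizer ({v} : Set G)) (hw : w ∈ S) (hwc : w ∉ center G) :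
    normalizer (S : Set G) ≤ normalizer ((centralizer ({v} : Set G) : Subgroup G) : Set G) := by
  have hPR : ∀ y ∈ S, y ∉ center G → PR p y := by
    intro y hy hyc
    obtain ⟨k, hk⟩ := hS ⟨y, hy⟩
    exact ⟨coprime_of_pow hs ((Nat.coprime_primes hs hp).mpr hsp) (congrArg Subtype.val hk), hyc⟩
  have heq : ∀ y ∈ S, y ∉ center G → centralizer ({v} : Set G) = centralizer ({y} : Set G) := by
    intro y hy hyc
    exact hT.eq_of_commute hv (hPR y hy hyc) (mem_centralizer_singleton_iff.mp (hSv hy) : Commute y v).symm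
  intro n hn
  have h1 : ∀ n ∈ normalizer (S : Set G), ∀ g ∈ centralizer ({v} : Set G),
      n * g * n⁻¹ ∈ centralizer ({v} : Set G) := by
    intro n hn g hg
    have h2 : n * w * n⁻¹ ∈ S := (mem_normalizer_iff.mp hn w).mp hw
    have h3 := ((hPR w hw hwc).conj n).2
    rw [heq _ h2 h3, mem_centralizer_singleton_iff]
    rw [heq w hw hwc, mem_centralizer_singleton_iff] at hg
    calc n * g * n⁻¹ * (n * w * n⁻¹) = n * (g * w) * n⁻¹ := by group
      _ = n * (w * g) * n⁻¹ := by rw [hg]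
      _ = n * w * n⁻¹ * (n * g * n⁻¹) := by group
  rw [mem_normalizer_iff]
  intro g
  refine ⟨h1 n hn g, fun hg => ?_⟩
  have := h1 n⁻¹ (inv_mem hn) _ hg
  simpa [mul_assoc] using this

/-- The final contradiction from `G = O_p(G) N(C(v))`. -/
theorem false_of_factor (h : HH G p m) (hT : TI G p) (hp : p.Prime) {q r : ℕ} (hq : q.Prime)
    (hr : r.Prime) (hqp : q ≠ p) (hrp : r ≠ p) (hqr : q ≠ r) (hqm : q ∣ m) (hrm : ¬ r ∣ m)
    {v₁ u : G} (hv₁ : PR p v₁) (hv₁r : ∃ k, v₁ ^ r ^ k = 1) (hu : PR p u) (huq : ∃ k, u ^ q ^ k = 1)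
    {v : G} (hv : PR p v)
    (hfac : pCore p G ⊔ normalizer ((centralizer ({v} : Set G) : Subgroup G) : Set G) = ⊤) : False := by
  have := Fact.mk hp
  have := Fact.mk hq
  have := Fact.mk hr
  obtain ⟨Q, hQ, t, htQ, htv⟩ :=
    exists_sylow_normalizing h hT hp hq hr hqp hrp hqr hqm hv₁ hv₁r hu huq hv
  have htp : ∃ k, t ^ q ^ k = 1 := by
    obtain ⟨k, hk⟩ := Q.isPGroup' ⟨t, htQ⟩
    exact ⟨k, congrArg Subtype.val hk⟩
  have ht : PR p t := by
    refine ⟨?_, fun hc => htv (center_le_centralizer _ hc)⟩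
    obtain ⟨k, hk⟩ := htp
    exact coprime_of_pow hq ((Nat.coprime_primes hq hp).mpr hqp) hk
  obtain ⟨Y₁, hY₁⟩ := exists_sylow_eq_R h hT hp hrp hrm hv
  obtain ⟨Y₂, hY₂⟩ := exists_sylow_eq_R h hT hp hrp hrm ht
  have hpn : (pCore p G).Normal := Cfsg.Agent.Lib.Cores.pCore_normal p
  let Y : Subgroup G := pCore p G ⊔ R v r
  have hYn : Y.Normal := by
    rw [← normalizer_eq_top_iff, eq_top_iff, ← hfac]
    refine sup_le (le_sup_left.trans le_normalizer) ?_
    intro n hn
    have hn' := normalizer_le v r hn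
    rw [mem_normalizer_iff_map_conj_eq, Subgroup.map_sup, mem_normalizer_iff_map_conj_eq.mp hn']
    congr 1
    have h1 : n ∈ normalizer (pCore p G : Set G) := by
      rw [normalizer_eq_top_iff.mpr hpn]; exact mem_top _
    exact mem_normalizer_iff_map_conj_eq.mp h1
  have hR₁ : R v r ≤ Y := le_sup_right
  have hR₂ : R t r ≤ Y := by
    obtain ⟨g, hg⟩ := MulAction.exists_smul_eq G Y₁ Y₂
    intro a ha
    rw [← hY₂, ← hg, Sylow.coe_subgroup_smul, mem_pointwise_smul_iff_inv_smul_mem, hY₁] at ha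
    have h1 : g⁻¹ * a * g ∈ Y := by
      apply hR₁
      simpa [MulAut.smul_def, MulAut.inv_apply, MulAut.conj_symm_apply] using ha
    have h2 := hYn.conj_mem _ h1 g
    have h3 : g * (g⁻¹ * a * g) * g⁻¹ = a := by group
    rwa [h3] at h2
  have htN : t ∈ normalizer (R v r : Set G) := normalizer_le v r (hQ htQ)
  have htC : ∀ a ∈ R t r, a * t = t * a := fun a ha => mem_centralizer_singleton_iff.mp (R_le t r ha)
  have hcop : (Nat.card (zpowers t)).Coprime (Nat.card Y) := by
    have h1 : Nat.card Y ∣ Nat.card (pCore p G) * Nat.card (R v r) :=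
      Cfsg.Agent.Lib.Cores.card_sup_dvd _ _ hpn
    apply Nat.Coprime.coprime_dvd_right h1
    obtain ⟨i, hi⟩ := IsPGroup.iff_card.mp (Cfsg.Agent.Lib.Cores.pCore_isPGroup (G := G) p)
    obtain ⟨j, hj⟩ := IsPGroup.iff_card.mp (R_isPGroup v r)
    obtain ⟨k, hk⟩ := htp
    rw [hi, hj, Nat.card_zpowers]
    exact Nat.Coprime.mul_right
      (coprime_of_pow hq (Nat.Coprime.pow_right _ ((Nat.coprime_primes hq hp).mpr hqp)) hk)
      (coprime_of_pow hq (Nat.Coprime.pow_right _ ((Nat.coprime_primes hq hr).mpr hqr)) hk)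
  have hle₁ : (Y₁ : Subgroup G) ≤ Y := hY₁ ▸ hR₁
  have hle₂ : (Y₂ : Subgroup G) ≤ Y := hY₂ ▸ hR₂
  obtain ⟨c, hc, hcPQ⟩ := Cfsg.Agent.S0024.result (zpowers t) Y
    (by rw [normalizer_eq_top_iff.mpr hYn]; exact le_top) hcop
    (Or.inl inferInstance) r (Y₁.subtype hle₁) (Y₂.subtype hle₂)
    (by
      rw [Sylow.coe_subtype, subgroupOf_map_subtype, inf_of_le_left hle₁, hY₁]
      exact zpowers_le.mpr htN)
    (by
      rw [Sylow.coe_subtype, subgroupOf_map_subtype, inf_of_le_left hle₂, hY₂]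
      rw [zpowers_le]
      apply centralizer_le_normalizer
      rw [mem_centralizer_iff]
      exact htC)
  obtain ⟨a, hav, ha, har⟩ := h.exists_mem hr hv hv₁ hv₁r
  have haR : a ∈ R v r := mem_R hT hv hr hrp hp (mem_centralizer_singleton_iff.mpr hav) har
  have h3 : (c : G) * a * (c : G)⁻¹ ∈ R t r := by
    have h4 : (⟨a, hR₁ haR⟩ : Y) ∈ (Y₁.subtype hle₁ : Subgroup Y) := by
      rw [Sylow.coe_subtype, mem_subgroupOf, hY₁]
      exact haR
    have h5 : MulAut.conj c • (⟨a, hR₁ haR⟩ : Y) ∈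
        ((MulAut.conj c • (Y₁.subtype hle₁) : Sylow r Y) : Subgroup Y) := by
      rw [Sylow.pointwise_smul_def]
      exact smul_mem_pointwise_smul _ _ _ h4
    rw [hcPQ, Sylow.coe_subtype, mem_subgroupOf, hY₂] at h5
    simpa [MulAut.smul_def] using h5
  have h6 := htC _ h3
  have h7 : (c : G) * t = t * c := by
    have := mem_centralizer_iff.mp hc t (mem_zpowers t)
    exact this.symm
  apply htv
  rw [hT.eq_of_commute hv ha (show Commute v a from hav.symm), mem_centralizer_singleton_iff]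
  have h8 : (c : G)⁻¹ * t * c = t := by rw [mul_assoc, ← h7]; group
  calc t * a = ((c : G)⁻¹ * t * c) * a := by rw [h8]
    _ = (c : G)⁻¹ * (t * (c * a * (c : G)⁻¹)) * c := by group
    _ = (c : G)⁻¹ * ((c * a * (c : G)⁻¹) * t) * c := by rw [h6]
    _ = a * ((c : G)⁻¹ * t * c) := by group
    _ = a * t := by rw [h8]

/-- **In the type I case only `p` divides `m`.** -/
theorem false_of_typeI (h : HH G p m) (hT : TI G p) (hp : p.Prime) {q r : ℕ} (hq : q.Prime)
    (hr : r.Prime) (hqp : q ≠ p) (hrp : r ≠ p) (hqr : q ≠ r) (hqm : q ∣ m)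
    {v₁ : G} (hv₁ : PR p v₁) (hv₁r : ∃ k, v₁ ^ r ^ k = 1) : False := by
  have := Fact.mk hp
  have := Fact.mk hq
  have := Fact.mk hr
  -- elements of prime power order for the primes dividing `m`
  have hel : ∀ s : ℕ, s.Prime → s ≠ p → s ∣ m → ∃ y : G, PR p y ∧ ∃ k, y ^ s ^ k = 1 := by
    intro s hs hsp hsm
    have := Fact.mk hs
    obtain ⟨z, hzQ, hz, -, -⟩ := exists_z h hv₁ hs hsm default
    obtain ⟨k, hk⟩ := (default : Sylow s G).isPGroup' ⟨z, hzQ⟩
    have hk' : z ^ s ^ k = 1 := congrArg Subtype.val hk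
    exact ⟨z, ⟨coprime_of_pow hs ((Nat.coprime_primes hs hp).mpr hsp) hk', hz⟩, k, hk'⟩
  have hms : ∀ s : ℕ, s.Prime → s ∣ m → s = p ∨ s = q := by
    intro s hs hsm
    by_contra hcon
    push Not at hcon
    obtain ⟨y₁, hy₁, hy₁'⟩ := hel s hs hcon.1 hsm
    obtain ⟨y₂, hy₂, hy₂'⟩ := hel q hq hqp hqm
    exact unique_prime h hT hp hs hq hcon.1 hqp hcon.2 hsm hqm hy₁ hy₂ hy₁' hy₂'
  have hrm : ¬ r ∣ m := by
    intro hrm
    rcases hms r hr hrm with h1 | h1
    · exact hrp h1
    · exact hqr h1.symm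
  obtain ⟨u, hu, huq⟩ := hel q hq hqp hqm
  let Q : Sylow q G := default
  obtain ⟨z, hzQ, hzc, hzq, hzcomm⟩ := exists_z h hv₁ hq hqm Q
  obtain ⟨hz, hQz, -⟩ := index_z h hT hp hq hr hqp hrp hqr hqm hv₁ hv₁r Q hzQ hzc hzq hzcomm
  have hfac1 := not_sq_dvd h hT hp hq hr hqp hrp hqr hqm hv₁ hv₁r hz
  obtain ⟨k, hk⟩ := index_bar h hz hfac1 hms Q hzcomm
  rw [← ncard_class] at hk
  have hsol := Cfsg.Agent.S4037.result _ hp k hk
  -- the quotient
  have hpn : (pCore p (G ⧸ center G)).Normal := Cfsg.Agent.Lib.Cores.pCore_normal p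
  let π := QuotientGroup.mk' (pCore p (G ⧸ center G))
  let f : G →* (G ⧸ center G) ⧸ pCore p (G ⧸ center G) := π.comp (QuotientGroup.mk' (center G))
  have hf : Function.Surjective f :=
    (QuotientGroup.mk'_surjective _).comp (QuotientGroup.mk'_surjective _)
  let M₁ := (normalClosure {(z : G ⧸ center G)}).map π
  have hM₁n : M₁.Normal := normalClosure_normal.map π (QuotientGroup.mk'_surjective _)
  have hM₁s : Group.IsSolvable M₁ := by
    have := hsol
    exact Group.isSolvable_of_surjective (f := π.subgroupMap (normalClosure {(z : G ⧸ center G)}))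
      (π.subgroupMap_surjective _)
  have hzM : f z ∈ M₁ := ⟨(z : G ⧸ center G), subset_normalClosure rfl, rfl⟩
  have hfz : f z ≠ 1 := by
    intro h1
    have h2 : (z : G ⧸ center G) ∈ pCore p (G ⧸ center G) := (QuotientGroup.eq_one_iff _).mp h1
    obtain ⟨i, hi⟩ := (Cfsg.Agent.Lib.Cores.pCore_isPGroup (G := G ⧸ center G) p) ⟨_, h2⟩
    have hi' : (z : G ⧸ center G) ^ p ^ i = 1 := congrArg Subtype.val hi
    obtain ⟨j, hj⟩ := Q.isPGroup' ⟨z, hzQ⟩
    have hj' : z ^ q ^ j = 1 := congrArg Subtype.val hj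
    have hj'' : (z : G ⧸ center G) ^ q ^ j = 1 := by
      rw [← QuotientGroup.mk_pow, hj', QuotientGroup.mk_one]
    have h3 : orderOf (z : G ⧸ center G) ∣ 1 := by
      have h4 : (p ^ i).Coprime (q ^ j) :=
        Nat.Coprime.pow _ _ ((Nat.coprime_primes hp hq).mpr hqp.symm)
      rw [← h4]
      exact Nat.dvd_gcd (orderOf_dvd_of_pow_eq_one hi') (orderOf_dvd_of_pow_eq_one hj'')
    apply hzc
    rw [← QuotientGroup.eq_one_iff, ← orderOf_eq_one_iff]
    exact Nat.dvd_one.mp h3
  have hM₁nt : Nontrivial M₁ := ⟨⟨⟨f z, hzM⟩, 1, fun h1 => hfz (congrArg Subtype.val h1)⟩⟩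
  obtain ⟨s, hs, N, hNc, -, hNs, hNne⟩ :=
    Cfsg.Agent.Lib.SolvableMinNormal.exists_characteristic_pgroup (G := M₁)
  have := Fact.mk hs
  let E := N.map M₁.subtype
  have hEn : E.Normal := inferInstance
  have hEs : IsPGroup s E := hNs.map _
  have hEne : E ≠ ⊥ := by
    intro h1
    exact hNne ((Subgroup.map_eq_bot_iff_of_injective _ M₁.subtype_injective).mp h1)
  have hsp : s ≠ p := by
    intro h1
    apply hEne
    rw [eq_bot_iff, ← Cfsg.Agent.Lib.Cores.pCore_quotient_pCore (G := G ⧸ center G) p]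
    exact Cfsg.Agent.Lib.Cores.le_pCore hEn (h1 ▸ hEs)
  let M₂ := E.comap f
  have hM₂n : M₂.Normal := hEn.comap f
  have hmapM₂ : M₂.map f = E := map_comap_eq_self_of_surjective hf E
  -- the kernel
  have hX : f.ker ≤ center G ⊔ pCore p G := by
    apply le_center_sup_pCore hp
    apply (Cfsg.Agent.Lib.Cores.pCore_isPGroup (G := G ⧸ center G) p).to_le
    rintro _ ⟨x, hx, rfl⟩
    exact (QuotientGroup.eq_one_iff _).mp hx
  have hXM : f.ker ≤ M₂ := by
    intro x hx
    rw [mem_comap, MonoidHom.mem_ker.mp hx]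
    exact one_mem _
  let S : Sylow s M₂ := default
  let S' := (S : Subgroup M₂).map M₂.subtype
  have hS's : IsPGroup s S' := S.isPGroup'.map _
  have hM₂S : M₂ ≤ S' ⊔ f.ker := by
    obtain ⟨n, hn⟩ := IsPGroup.iff_card.mp hEs
    have hidx : (f.ker.subgroupOf M₂).index = s ^ n := by
      rw [← hn, ← hmapM₂, ← relIndex_ker]
      rfl
    have h1 := sylow_sup_eq_top S _ hidx
    intro x hx
    have h2 : x ∈ ((S : Subgroup M₂) ⊔ f.ker.subgroupOf M₂).map M₂.subtype := by
      rw [h1]; exact ⟨⟨x, hx⟩, mem_top _, rfl⟩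
    rw [Subgroup.map_sup, subgroupOf_map_subtype, inf_of_le_left hXM] at h2
    exact h2
  have hfrat : normalizer (S' : Set G) ⊔ M₂ = ⊤ := Sylow.normalizer_sup_eq_top S
  have hfac : pCore p G ⊔ normalizer (S' : Set G) = ⊤ := by
    rw [eq_top_iff, ← hfrat]
    refine sup_le le_sup_right (hM₂S.trans (sup_le (le_normalizer.trans le_sup_right) (hX.trans
      (sup_le ?_ le_sup_left))))
    exact (center_le_normalizer _).trans le_sup_right
  have hS'c : ∃ w ∈ S', w ∉ center G := by
    by_contra hcon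
    push Not at hcon
    apply hEne
    rw [← hmapM₂, Subgroup.map_eq_bot_iff]
    refine hM₂S.trans (sup_le ?_ le_rfl)
    intro w hw
    have h1 : ((w : G) : G ⧸ center G) = 1 := (QuotientGroup.eq_one_iff w).mpr (hcon w hw)
    rw [MonoidHom.mem_ker]
    show π ((w : G) : G ⧸ center G) = 1
    rw [h1, map_one]
  obtain ⟨w, hw, hwc⟩ := hS'c
  have hwP : PR p w := by
    obtain ⟨k, hk⟩ := hS's ⟨w, hw⟩
    exact ⟨coprime_of_pow hs ((Nat.coprime_primes hs hp).mpr hsp) (congrArg Subtype.val hk), hwc⟩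
  obtain ⟨v, hv, hS'v⟩ : ∃ v : G, PR p v ∧ S' ≤ centralizer ({v} : Set G) := by
    by_cases hsq : s = q
    · -- `s = q`
      subst hsq
      obtain ⟨Q₁, hQ₁, -⟩ :=
        exists_sylow_normalizing h hT hp hs hr hsp hrp hqr hqm hv₁ hv₁r hu huq hv₁
      obtain ⟨Q₂, hQ₂⟩ := hS's.exists_le_sylow
      obtain ⟨g, hg⟩ := MulAction.exists_smul_eq G Q₁ Q₂
      have hv : PR p (g * v₁ * g⁻¹) := hv₁.conj g
      refine ⟨g * v₁ * g⁻¹, hv, ?_⟩
      have hCv : ∀ y, y ∈ centralizer ({g * v₁ * g⁻¹} : Set G) ↔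
          g⁻¹ * y * g ∈ centralizer ({v₁} : Set G) := by
        intro y
        rw [mem_centralizer_singleton_iff, mem_centralizer_singleton_iff]
        constructor
        · intro h1
          calc g⁻¹ * y * g * v₁ = g⁻¹ * (y * (g * v₁ * g⁻¹)) * g := by group
            _ = g⁻¹ * ((g * v₁ * g⁻¹) * y) * g := by rw [h1]
            _ = v₁ * (g⁻¹ * y * g) := by group
        · intro h1
          calc y * (g * v₁ * g⁻¹) = g * ((g⁻¹ * y * g) * v₁) * g⁻¹ := by group
            _ = g * (v₁ * (g⁻¹ * y * g)) * g⁻¹ := by rw [h1]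
            _ = g * v₁ * g⁻¹ * y := by group
      have hbN : ∀ b ∈ S', b ∈ normalizer ((centralizer ({g * v₁ * g⁻¹} : Set G) : Subgroup G) : Set G) := by
        intro b hb
        have h1 := hQ₂ hb
        rw [← hg, Sylow.coe_subgroup_smul, mem_pointwise_smul_iff_inv_smul_mem] at h1
        have h2 : g⁻¹ * b * g ∈ (Q₁ : Subgroup G) := by
          simpa [MulAut.smul_def, MulAut.inv_apply, MulAut.conj_symm_apply] using h1
        have h3 := mem_normalizer_iff.mp (hQ₁ h2)
        rw [mem_normalizer_iff]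
        intro y
        rw [hCv, hCv, h3]
        have h4 : g⁻¹ * b * g * (g⁻¹ * y * g) * (g⁻¹ * b * g)⁻¹ = g⁻¹ * (b * y * b⁻¹) * g := by group
        rw [h4]
      obtain ⟨a, hav, ha, har⟩ := h.exists_mem hr hv hv₁ hv₁r
      have haR : a ∈ R (g * v₁ * g⁻¹) r :=
        mem_R hT hv hr hrp hp (mem_centralizer_singleton_iff.mpr hav) har
      have hpn' : (pCore p G).Normal := Cfsg.Agent.Lib.Cores.pCore_normal p
      have hYn : (pCore p G ⊔ S').Normal := by
        rw [← normalizer_eq_top_iff, eq_top_iff, ← hfac]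
        refine sup_le (le_sup_left.trans le_normalizer) ?_
        intro n hn
        rw [mem_normalizer_iff_map_conj_eq, Subgroup.map_sup, mem_normalizer_iff_map_conj_eq.mp hn]
        congr 1
        have h1 : n ∈ normalizer (pCore p G : Set G) := by
          rw [normalizer_eq_top_iff.mpr hpn']; exact mem_top _
        exact mem_normalizer_iff_map_conj_eq.mp h1
      have hinf : R (g * v₁ * g⁻¹) r ⊓ (pCore p G ⊔ S') = ⊥ := by
        have h1 : Nat.card (pCore p G ⊔ S' : Subgroup G) ∣ Nat.card (pCore p G) * Nat.card S' :=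
          Cfsg.Agent.Lib.Cores.card_sup_dvd _ _ hpn'
        obtain ⟨i, hi⟩ := IsPGroup.iff_card.mp (Cfsg.Agent.Lib.Cores.pCore_isPGroup (G := G) p)
        obtain ⟨j, hj⟩ := IsPGroup.iff_card.mp hS's
        obtain ⟨l, hl⟩ := IsPGroup.iff_card.mp (R_isPGroup (g * v₁ * g⁻¹) r)
        apply inf_eq_bot_of_coprime
        apply Nat.Coprime.coprime_dvd_right h1
        rw [hi, hj, hl]
        exact Nat.Coprime.mul_right (Nat.Coprime.pow _ _ ((Nat.coprime_primes hr hp).mpr hrp))
          (Nat.Coprime.pow _ _ ((Nat.coprime_primes hr hs).mpr hqr.symm))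
      intro b hb
      have h5 : a * b * a⁻¹ * b⁻¹ = 1 := by
        rw [← mem_bot, ← hinf]
        constructor
        · have h6 : b * a⁻¹ * b⁻¹ ∈ R (g * v₁ * g⁻¹) r :=
            (mem_normalizer_iff.mp (normalizer_le _ r (hbN b hb)) a⁻¹).mp (inv_mem haR)
          have h7 : a * b * a⁻¹ * b⁻¹ = a * (b * a⁻¹ * b⁻¹) := by group
          rw [h7]
          exact mul_mem haR h6
        · have h9 : b ∈ pCore p G ⊔ S' := mem_sup_right hb
          exact Subgroup.mul_mem (pCore p G ⊔ S') (hYn.conj_mem _ h9 a)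
            (Subgroup.inv_mem (pCore p G ⊔ S') h9)
      rw [hT.eq_of_commute hv ha (show Commute _ a from hav.symm), mem_centralizer_singleton_iff]
      have h8 : a * b = b * a := by
        have := mul_inv_eq_one.mp h5
        rw [mul_inv_eq_iff_eq_mul] at this
        exact this
      exact h8.symm
    · have hsm : ¬ s ∣ m := by
        intro hsm
        rcases hms s hs hsm with h1 | h1
        · exact hsp h1
        · exact hsq h1
      obtain ⟨Y₁, hY₁⟩ := exists_sylow_eq_R h hT hp hsp hsm hwP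
      obtain ⟨T, hT1⟩ := hS's.exists_le_sylow
      obtain ⟨g, hg⟩ := MulAction.exists_smul_eq G Y₁ T
      have hcj : ∀ b ∈ S', g⁻¹ * b * g ∈ R w s := by
        intro b hb
        have h1 := hT1 hb
        rw [← hg, Sylow.coe_subgroup_smul, mem_pointwise_smul_iff_inv_smul_mem, hY₁] at h1
        simpa [MulAut.smul_def, MulAut.inv_apply, MulAut.conj_symm_apply] using h1
      refine ⟨w, hwP, fun b hb => ?_⟩
      rw [mem_centralizer_singleton_iff]
      have h2 : (g⁻¹ * b * g) * (g⁻¹ * w * g) = (g⁻¹ * w * g) * (g⁻¹ * b * g) :=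
        R_comm (hcj w hw) (R_le w s (hcj b hb))
      calc b * w = g * ((g⁻¹ * b * g) * (g⁻¹ * w * g)) * g⁻¹ := by group
        _ = g * ((g⁻¹ * w * g) * (g⁻¹ * b * g)) * g⁻¹ := by rw [h2]
        _ = w * b := by group
  have hN := normalizer_le_of_mem hT hp hs hsp hS's hv hS'v hw hwc
  have hfac' : pCore p G ⊔ normalizer ((centralizer ({v} : Set G) : Subgroup G) : Set G) = ⊤ := by
    rw [eq_top_iff, ← hfac]
    exact sup_le_sup_left hN _
  exact false_of_factor h hT hp hq hr hqp hrp hqr hqm hrm hv₁ hv₁r hu huq hv hfac'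

end Cfsg.Agent.H503.TwoReg
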